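import Groth.Agent.Lib.QCoh8.Separator
import Groth.Agent.Lib.ModM1.FT
import Groth.Agent.Lib.ModM1.Coh
import Groth.Agent.Lib.ModM1.Stalk
import Groth.Agent.Lib.ModM1.Extend

/-!
# Quasi-coherent submodules and subobjects in QCoh
-/

set_option autoImplicit false
set_option backward.isDefEq.respectTransparency false

universe u

open CategoryTheory CategoryTheory.Limits AlgebraicGeometry Opposite

namespace Groth.Agent.QCoh8

open Groth.Agent Groth.Agent.M1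

variable {X : Scheme.{u}}

/-- Inclusion of quasi-coherent submodules may be tested on sections over the members of an affine cover. -/
theorem mem_of_affine_cover {F : X.Modules} (p q : M1.Sub F) (hq : Coh.IsQCoh q.P) {ι : Type*} (U : ι → X.Opens)
    (hU : ∀ i, IsAffineOpen (U i)) (hcov : ∀ x : X, ∃ i, x ∈ U i)
    (h : ∀ i (s : Γ(F, U i)), q.mem (U i) s → p.mem (U i) s) (T : X.Opens) (s : Γ(F, T))
    (hs : q.mem T s) : p.mem T s := by
  refine p.mem_of_locally s fun x hx => ?_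
  obtain ⟨i, hi⟩ := hcov x
  obtain ⟨g, hgT, hgx⟩ := (hU i).exists_basicOpen_le ⟨x, hx⟩ hi
  refine ⟨X.basicOpen g, hgT, hgx, ?_⟩
  obtain ⟨a, rfl⟩ := hs
  haveI := hq
  obtain ⟨n, t, ht⟩ := exists_pow_smul_eq_res_affine q.P (hU i) g (mres q.P hgT a)
  have h1 := M1.Sub.mem_mres p (X.basicOpen_le g) (h i _ ⟨t, rfl⟩)
  rw [← app_mres, ht, Scheme.Modules.Hom.app_smul, app_mres] at h1
  have hu : IsUnit (M1.ores (X.basicOpen_le g) g ^ n) := (X.toRingedSpace.isUnit_res_basicOpen g).pow n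
  obtain ⟨r, hr⟩ := hu
  rw [← hr] at h1
  have h2 := p.mem_smul (↑r⁻¹ : Γ(X, X.basicOpen g)) h1
  rw [smul_smul, Units.inv_mul, one_smul] at h2
  exact h2

theorem isQCoh_biprod_ft {A B : X.Modules} (hA : Coh.IsQCoh A) (hB : Coh.IsQCoh B) (hA' : CohB1.IsFT A)
    (hB' : CohB1.IsFT B) : CohB1.IsFT (A ⊞ B) := by
  refine M1.isFT_of_finite_sections (isQCoh_biprod X hA hB) fun U hU => ?_
  haveI := M1.finite_sections hA hA' hU
  haveI := M1.finite_sections hB hB' hU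
  let f : Γ(A, U) × Γ(B, U) →ₗ[Γ(X, U)] Γ(A ⊞ B, U) :=
    { toFun := fun ab => (biprod.inl : A ⟶ A ⊞ B).app U ab.1 + (biprod.inr : B ⟶ A ⊞ B).app U ab.2
      map_add' := fun a b => by
        simp only [Prod.fst_add, Prod.snd_add, map_add]; abel
      map_smul' := fun r a => by
        simp only [Prod.smul_fst, Prod.smul_snd, Scheme.Modules.Hom.app_smul, smul_add, RingHom.id_apply] }
  refine Module.Finite.of_surjective f fun w => ⟨((biprod.fst : A ⊞ B ⟶ A).app U w, (biprod.snd : A ⊞ B ⟶ B).app U w), ?_⟩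
  have := congrArg (fun φ : A ⊞ B ⟶ A ⊞ B => φ.app U w) (biprod.total (X := A) (Y := B))
  exact this

/-- Two finite type quasi-coherent submodules lie in a third one. -/
theorem exists_sup {F : X.Modules} (hF : Coh.IsQCoh F) (p q : M1.Sub F) (hp : Coh.IsQCoh p.P)
    (hp' : CohB1.IsFT p.P) (hq : Coh.IsQCoh q.P) (hq' : CohB1.IsFT q.P) :
    ∃ r : M1.Sub F, Coh.IsQCoh r.P ∧ CohB1.IsFT r.P ∧
      (∀ T s, p.mem T s → r.mem T s) ∧ ∀ T s, q.mem T s → r.mem T s := by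
  refine ⟨M1.Sub.im (biprod.desc p.i q.i), M1.Sub.isQCoh_im _ (isQCoh_biprod X hp hq) hF,
    M1.Sub.isFT_im _ (isQCoh_biprod_ft hp hq hp' hq'), ?_, ?_⟩
  · rintro T _ ⟨a, rfl⟩
    have := M1.Sub.im_mem_app (biprod.desc p.i q.i) T ((biprod.inl : p.P ⟶ p.P ⊞ q.P).app T a)
    rwa [← comp_app_apply, biprod.inl_desc] at this
  · rintro T _ ⟨a, rfl⟩
    have := M1.Sub.im_mem_app (biprod.desc p.i q.i) T ((biprod.inr : q.P ⟶ p.P ⊞ q.P).app T a)
    rwa [← comp_app_apply, biprod.inr_desc] at this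

/-- Over a qcqs scheme every section over a quasi-compact open lies in a finite type quasi-coherent submodule. -/
theorem exists_ft_mem [CompactSpace X] [QuasiSeparatedSpace X] {F : X.Modules} (hF : Coh.IsQCoh F)
    {U : X.Opens} (hU : IsCompact (U : Set X)) (s : Γ(F, U)) :
    ∃ q : M1.Sub F, Coh.IsQCoh q.P ∧ CohB1.IsFT q.P ∧ q.mem U s := by
  haveI := hF
  let f : M1.fr (X := (U : Scheme.{u})) PUnit.{u + 1} ⟶ F.restrict U.ι :=
    M1.freeHom fun _ => (F.restrictAppIso U.ι ⊤).inv (mres F U.ι_image_top.le s)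
  let H := M1.Sub.im f
  obtain ⟨e, he⟩ := M1.Sub.exists_iso ((M1.Sub.ext U.ι H).res U.ι) H (M1.Sub.mem_res_ext U.ι H)
  have hFT : M1.Sub.FTOn (M1.Sub.ext U.ι H) U :=
    ⟨M1.isQCoh_of_isIso e.symm (M1.Sub.isQCoh_im f (M1.isQCoh_fr _ _) (M1.isQCoh_restrict hF _)),
      M1.isFT_of_isIso e.symm (M1.Sub.isFT_im f (M1.isFT_fr _ _))⟩
  obtain ⟨q, hq, hq', ha⟩ := M1.Sub.exists_extend_qcqs hF (M1.Sub.ext U.ι H) U hU hFT
  refine ⟨q, hq, hq', (ha U le_rfl s).1 ?_⟩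
  rw [← (M1.Sub.ext U.ι H).mem_congr U.ι_image_top.symm, ← M1.Sub.mem_res, M1.Sub.mem_res_ext]
  have h := M1.Sub.im_mem_app f ⊤ ((M1.ιF PUnit.unit).app ⊤ (M1.one ⊤))
  rw [← comp_app_apply, M1.ιF_freeHom, M1.secHom_app_one] at h
  exact h

variable {M : QCohCat.QCoh X}

/-- The submodule of a subobject in QCoh. -/
noncomputable def toSub (S : Subobject M) : M1.Sub M.obj :=
  ⟨(S : QCohCat.QCoh X).obj, S.arrow.hom, inferInstanceAs (Mono ((QCohCat.isQCoh X).ι.map S.arrow))⟩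

theorem isQCoh_toSub (S : Subobject M) : Coh.IsQCoh (toSub S).P := (S : QCohCat.QCoh X).property

theorem le_of_toSub {S T : Subobject M} (h : ∀ U s, (toSub S).mem U s → (toSub T).mem U s) : S ≤ T := by
  obtain ⟨c, hc⟩ := M1.Sub.exists_lift (toSub S).i (toSub T) fun U m => h U _ ⟨m, rfl⟩
  exact Subobject.le_of_comm (ObjectProperty.homMk c) (ObjectProperty.hom_ext _ hc)

theorem mem_of_le {S T : Subobject M} (h : S ≤ T) (U : X.Opens) (s : Γ(M.obj, U)) :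
    (toSub S).mem U s → (toSub T).mem U s := by
  rintro ⟨a, rfl⟩
  refine ⟨(S.ofLE T h).hom.app U a, ?_⟩
  exact congrArg (fun φ : (S : QCohCat.QCoh X) ⟶ M => φ.hom.app U a) (Subobject.ofLE_arrow h)

/-- The subobject of a quasi-coherent submodule. -/
noncomputable def ofSub (p : M1.Sub M.obj) (hp : Coh.IsQCoh p.P) : Subobject M :=
  haveI : Mono (ObjectProperty.homMk p.i : (⟨p.P, hp⟩ : QCohCat.QCoh X) ⟶ M) :=
    (QCohCat.isQCoh X).ι.mono_of_mono_map (inferInstanceAs (Mono p.i))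
  Subobject.mk (ObjectProperty.homMk p.i : (⟨p.P, hp⟩ : QCohCat.QCoh X) ⟶ M)

theorem mem_ofSub (p : M1.Sub M.obj) (hp : Coh.IsQCoh p.P) (U : X.Opens) (s : Γ(M.obj, U)) :
    (toSub (ofSub p hp)).mem U s ↔ p.mem U s := by
  haveI : Mono (ObjectProperty.homMk p.i : (⟨p.P, hp⟩ : QCohCat.QCoh X) ⟶ M) :=
    (QCohCat.isQCoh X).ι.mono_of_mono_map (inferInstanceAs (Mono p.i))
  constructor
  · rintro ⟨a, rfl⟩
    refine ⟨(Subobject.underlyingIso (ObjectProperty.homMk p.i : (⟨p.P, hp⟩ : QCohCat.QCoh X) ⟶ M)).hom.hom.app U a, ?_⟩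
    exact congrArg (fun φ => φ.hom.app U a)
      (Subobject.underlyingIso_hom_comp_eq_mk (ObjectProperty.homMk p.i : (⟨p.P, hp⟩ : QCohCat.QCoh X) ⟶ M))
  · rintro ⟨a, rfl⟩
    refine ⟨(Subobject.underlyingIso (ObjectProperty.homMk p.i : (⟨p.P, hp⟩ : QCohCat.QCoh X) ⟶ M)).inv.hom.app U a, ?_⟩
    exact congrArg (fun φ => φ.hom.app U a)
      (Subobject.underlyingIso_arrow (ObjectProperty.homMk p.i : (⟨p.P, hp⟩ : QCohCat.QCoh X) ⟶ M))

end Groth.Agent.QCoh8
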