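import Groth.Agent.Lib.QCoh8.Main
import Groth.Agent.Lib.QCoh8.Sub
import Groth.Agent.Lib.CohFound.Colim
import Groth.Agent.Lib.ModM1.Push

/-!
# Filtered colimits of modules: sections, direct images, homomorphisms from modules of finite presentation
-/

set_option autoImplicit false
set_option backward.isDefEq.respectTransparency false

universe u

open CategoryTheory CategoryTheory.Limits AlgebraicGeometry TopologicalSpace Opposite

namespace Groth.Agent.QCoh8

open Groth.Agent Groth.Agent.M1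

variable {X : Scheme.{u}} {J : Type u} [SmallCategory J] [IsFiltered J]

/-- A section of a filtered colimit over a qcqs open comes from a finite stage. -/
theorem sec_rep {D : J ⥤ X.Modules} {c : Cocone D} (hc : IsColimit c) {U : X.Opens}
    (hU : IsCompact (U : Set X)) (hq : IsQuasiSeparated (U : Set X)) (s : Γ(c.pt, U)) :
    ∃ (j : J) (t : Γ(D.obj j, U)), (c.ι.app j).app U t = s :=
  haveI : PreservesColimit D (SheafOfModules.toSheaf X.ringCatSheaf) :=
    (CohFound.preservesColimitsOfShape_sheafOfModules_toSheaf X.ringCatSheaf J).preservesColimit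
  CohFound.exists_rep_app (isColimitOfPreserves (SheafOfModules.toSheaf X.ringCatSheaf) hc) hU hq s

/-- A section dying in a filtered colimit over a quasi-compact open dies at a finite stage. -/
theorem sec_zero {D : J ⥤ X.Modules} {c : Cocone D} (hc : IsColimit c) {U : X.Opens}
    (hU : IsCompact (U : Set X)) {j : J} (t : Γ(D.obj j, U)) (h : (c.ι.app j).app U t = 0) :
    ∃ (k : J) (g : j ⟶ k), (D.map g).app U t = 0 :=
  haveI : PreservesColimit D (SheafOfModules.toSheaf X.ringCatSheaf) :=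
    (CohFound.preservesColimitsOfShape_sheafOfModules_toSheaf X.ringCatSheaf J).preservesColimit
  CohFound.exists_zero_of_app (isColimitOfPreserves (SheafOfModules.toSheaf X.ringCatSheaf) hc) hU t h

lemma app_map_comp (D : J ⥤ X.Modules) {i j k : J} (f : i ⟶ j) (g : j ⟶ k) (U : X.Opens) (t : Γ(D.obj i, U)) :
    (D.map (f ≫ g)).app U t = (D.map g).app U ((D.map f).app U t) := by
  rw [D.map_comp, comp_app_apply]

/-- Finitely many sections dying in the colimit die at a common stage. -/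
theorem sec_zero_finset {D : J ⥤ X.Modules} {c : Cocone D} (hc : IsColimit c) {ι : Type*} (S : Finset ι)
    (U : ι → X.Opens) (hU : ∀ i ∈ S, IsCompact (U i : Set X)) {j : J} (t : ∀ i, Γ(D.obj j, U i))
    (h : ∀ i ∈ S, (c.ι.app j).app (U i) (t i) = 0) :
    ∃ (k : J) (g : j ⟶ k), ∀ i ∈ S, (D.map g).app (U i) (t i) = 0 := by
  classical
  induction S using Finset.induction with
  | empty => exact ⟨j, 𝟙 j, by simp⟩
  | @insert a S ha ih =>
    obtain ⟨k, g, hk⟩ := ih (fun i hi => hU i (Finset.mem_insert_of_mem hi)) (fun i hi => h i (Finset.mem_insert_of_mem hi))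
    obtain ⟨l, g', hl⟩ := sec_zero hc (hU a (Finset.mem_insert_self _ _)) ((D.map g).app (U a) (t a)) (by
      rw [← comp_app_apply, c.w g]; exact h a (Finset.mem_insert_self _ _))
    refine ⟨l, g ≫ g', fun i hi => ?_⟩
    rw [app_map_comp]
    rcases Finset.mem_insert.1 hi with rfl | hi
    · exact hl
    · rw [hk i hi, map_zero]

/-- A morphism out of a quasi-coherent module is zero if it kills the sections over an affine cover. -/
theorem hom_eq_zero_of_affine_cover {M N : X.Modules} (hM : Coh.IsQCoh M) (φ : M ⟶ N) {ι : Type*}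
    (U : ι → X.Opens) (hU : ∀ i, IsAffineOpen (U i)) (hcov : ∀ x : X, ∃ i, x ∈ U i)
    (h : ∀ i (s : Γ(M, U i)), φ.app (U i) s = 0) : φ = 0 := by
  ext T s
  exact (M1.Sub.mem_ker φ T s).1 (mem_of_affine_cover (M1.Sub.ker φ) ⟨M, 𝟙 M, inferInstance⟩ hM U hU hcov
    (fun i a _ => (M1.Sub.mem_ker φ _ a).2 (h i a)) T s ⟨s, rfl⟩)

/-- A finite affine cover of a quasi-compact scheme. -/
theorem exists_cover (X : Scheme.{u}) [CompactSpace X] :
    ∃ (t : Finset X.affineOpens), ∀ x : X, ∃ i : t, x ∈ i.1.1 := by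
  obtain ⟨s, hs, e⟩ := M1.exists_finite_affine_iSup (X := X) (U := ⊤) isCompact_univ
  refine ⟨hs.toFinset, fun x => ?_⟩
  have : x ∈ (⊤ : X.Opens) := trivial
  rw [e] at this
  obtain ⟨i, hi⟩ := Opens.mem_iSup.1 this
  exact ⟨⟨i.1, hs.mem_toFinset.2 i.2⟩, hi⟩

/-- Finitely many generators over the members of a finite affine cover. -/
theorem exists_generators {M : X.Modules} (hM : Coh.IsQCoh M) (hFT : CohB1.IsFT M) (t : Finset X.affineOpens) :
    ∃ (S : Finset (Σ i : X.affineOpens, Γ(M, i.1))), ∀ i ∈ t, ∀ {N : X.Modules} (φ : M ⟶ N),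
      (∀ x ∈ S, φ.app x.1.1 x.2 = 0) → ∀ s : Γ(M, i.1), φ.app i.1 s = 0 := by
  classical
  have hfin : ∀ i : X.affineOpens, ∃ S : Finset Γ(M, i.1), Submodule.span Γ(X, i.1) (S : Set Γ(M, i.1)) = ⊤ :=
    fun i => (M1.finite_sections hM hFT i.2).fg_top
  choose S hS using hfin
  refine ⟨t.sigma fun i => S i, fun i hi N φ hφ s => ?_⟩
  have hs : s ∈ Submodule.span Γ(X, i.1) (S i : Set Γ(M, i.1)) := by rw [hS]; trivial
  induction hs using Submodule.span_induction with
  | mem x hx => exact hφ ⟨i, x⟩ (Finset.mem_sigma.2 ⟨hi, hx⟩)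
  | zero => exact map_zero _
  | add x y _ _ hx hy => rw [map_add, hx, hy, add_zero]
  | smul r x _ hx => rw [Scheme.Modules.Hom.app_smul, hx, smul_zero]

/-- Homomorphisms from a module of finite type: injectivity. -/
theorem hom_zero_stage [CompactSpace X] {D : J ⥤ X.Modules} {c : Cocone D} (hc : IsColimit c) {F : X.Modules}
    (hF : Coh.IsQCoh F) (hFT : CohB1.IsFT F) {j : J} (φ : F ⟶ D.obj j) (h : φ ≫ c.ι.app j = 0) :
    ∃ (k : J) (g : j ⟶ k), φ ≫ D.map g = 0 := by
  obtain ⟨t, ht⟩ := exists_cover X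
  obtain ⟨S, hS⟩ := exists_generators hF hFT t
  obtain ⟨k, g, hg⟩ := sec_zero_finset hc S (fun x => x.1.1) (fun x _ => x.1.2.isCompact)
    (fun x => φ.app x.1.1 x.2) (fun x _ => by rw [← comp_app_apply, h]; rfl)
  refine ⟨k, g, hom_eq_zero_of_affine_cover hF _ (fun i : t => i.1.1) (fun i => i.1.2) ht fun i s => ?_⟩
  exact hS i.1 i.2 (φ ≫ D.map g) (fun x hx => hg x hx) s

/-- Finitely many sections over quasi-compact opens lie in a finite type quasi-coherent submodule. -/
theorem exists_ft_finset [CompactSpace X] [QuasiSeparatedSpace X] {K : X.Modules} (hK : Coh.IsQCoh K)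
    {ι : Type*} (S : Finset ι) (U : ι → X.Opens) (hU : ∀ i ∈ S, IsCompact (U i : Set X)) (s : ∀ i, Γ(K, U i)) :
    ∃ q : M1.Sub K, Coh.IsQCoh q.P ∧ CohB1.IsFT q.P ∧ ∀ i ∈ S, q.mem (U i) (s i) := by
  classical
  induction S using Finset.induction with
  | empty =>
    obtain ⟨q, hq, hq', -⟩ := exists_ft_mem hK (U := ⊤) isCompact_univ (0 : Γ(K, (⊤ : X.Opens)))
    exact ⟨q, hq, hq', by simp⟩
  | @insert a S ha ih =>
    obtain ⟨q, hq, hq', hmem⟩ := ih (fun i hi => hU i (Finset.mem_insert_of_mem hi))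
    obtain ⟨p, hp, hp', hpmem⟩ := exists_ft_mem hK (hU a (Finset.mem_insert_self _ _)) (s a)
    obtain ⟨r, hr, hr', hqr, hpr⟩ := exists_sup hK q p hq hq' hp hp'
    refine ⟨r, hr, hr', fun i hi => ?_⟩
    rcases Finset.mem_insert.1 hi with rfl | hi
    · exact hpr _ _ hpmem
    · exact hqr _ _ (hmem i hi)

/-- Homomorphisms from a module of finite presentation: surjectivity. -/
theorem hom_rep_stage [CompactSpace X] [QuasiSeparatedSpace X] {D : J ⥤ X.Modules} {c : Cocone D}
    (hc : IsColimit c) (hD : ∀ j, Coh.IsQCoh (D.obj j)) (hcq : Coh.IsQCoh c.pt) {F : X.Modules}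
    (hFP : CohB1.IsFP F) (ψ : F ⟶ c.pt) :
    ∃ (k : J) (φ : F ⟶ D.obj k), φ ≫ c.ι.app k = ψ := by
  classical
  have hF := M1.isFP_isQCoh hFP
  have hFT := M1.isFP_isFT hFP
  obtain ⟨t, ht⟩ := exists_cover X
  obtain ⟨S, hS⟩ := exists_generators hF hFT t
  have hlift : ∀ x : (Σ i : X.affineOpens, Γ(F, i.1)), ∃ (j : J) (a : Γ(D.obj j, x.1.1)),
      (c.ι.app j).app x.1.1 a = ψ.app x.1.1 x.2 := fun x =>
    sec_rep hc x.1.2.isCompact x.1.2.isQuasiSeparated _
  choose jx ax hax using hlift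
  obtain ⟨j, hj⟩ := IsFiltered.sup_objs_exists (C := J) (S.image jx ∪ {(IsFiltered.nonempty (C := J)).some})
  have hjx : ∀ x ∈ S, Nonempty (jx x ⟶ j) := fun x hx =>
    hj (Finset.mem_union_left _ (Finset.mem_image_of_mem _ hx))
  let b : ∀ x : (Σ i : X.affineOpens, Γ(F, i.1)), Γ(D.obj j, x.1.1) := fun x =>
    if h : x ∈ S then (D.map (hjx x h).some).app x.1.1 (ax x) else 0
  have hb : ∀ x ∈ S, (c.ι.app j).app x.1.1 (b x) = ψ.app x.1.1 x.2 := fun x hx => by
    simp only [b, dif_pos hx]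
    rw [← comp_app_apply, c.w]
    exact hax x
  let ιj : D.obj j ⟶ c.pt := c.ι.app j
  let d : F ⊞ D.obj j ⟶ c.pt := biprod.desc ψ (-ιj)
  let w : ∀ x : (Σ i : X.affineOpens, Γ(F, i.1)), Γ(F ⊞ D.obj j, x.1.1) := fun x =>
    (biprod.inl : F ⟶ F ⊞ D.obj j).app x.1.1 x.2 + (biprod.inr : D.obj j ⟶ F ⊞ D.obj j).app x.1.1 (b x)
  have hw : ∀ x ∈ S, (M1.Sub.ker d).mem x.1.1 (w x) := fun x hx => by
    rw [M1.Sub.mem_ker, map_add, ← comp_app_apply, ← comp_app_apply, biprod.inl_desc, biprod.inr_desc]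
    have : (-ιj).app x.1.1 (b x) = -(ψ.app x.1.1 x.2) := congrArg Neg.neg (hb x hx)
    rw [this, add_neg_cancel]
  let s : ∀ x : (Σ i : X.affineOpens, Γ(F, i.1)), Γ((M1.Sub.ker d).P, x.1.1) := fun x =>
    if h : x ∈ S then (hw x h).choose else 0
  have hs : ∀ x ∈ S, (M1.Sub.ker d).i.app x.1.1 (s x) = w x := fun x hx => by
    simp only [s, dif_pos hx]; exact (hw x hx).choose_spec
  obtain ⟨r, hr, hr', hmem⟩ := exists_ft_finset
    (M1.isQCoh_kernel (isQCoh_biprod X hF (hD j)) hcq d : Coh.IsQCoh (M1.Sub.ker d).P)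
    S (fun x => x.1.1) (fun x _ => x.1.2.isCompact) s
  let π : r.P ⟶ F := r.i ≫ (M1.Sub.ker d).i ≫ biprod.fst
  let β : r.P ⟶ D.obj j := r.i ≫ (M1.Sub.ker d).i ≫ biprod.snd
  haveI : Epi π := by
    refine Preadditive.epi_of_cancel_zero _ fun {Z} g hg => hom_eq_zero_of_affine_cover hF g
      (fun i : t => i.1.1) (fun i => i.1.2) ht fun i a => hS i.1 i.2 g (fun x hx => ?_) a
    obtain ⟨a, ha⟩ := hmem x hx
    have h1 : π.app x.1.1 a = x.2 := by
      change (biprod.fst : F ⊞ D.obj j ⟶ F).app x.1.1 ((M1.Sub.ker d).i.app x.1.1 (r.i.app x.1.1 a)) = _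
      rw [ha, hs x hx]
      simp only [w, map_add]
      rw [← comp_app_apply, ← comp_app_apply, biprod.inl_fst, biprod.inr_fst]
      exact add_zero _
    rw [← h1, ← comp_app_apply, hg]
    rfl
  have hπψ : π ≫ ψ = β ≫ c.ι.app j := by
    have h0 : (M1.Sub.ker d).i ≫ d = 0 := kernel.condition d
    have h1 : (r.i ≫ (M1.Sub.ker d).i) ≫ d = 0 := by rw [Category.assoc, h0, comp_zero]
    simp only [d, biprod.desc_eq, Preadditive.comp_add, Preadditive.comp_neg, Category.assoc,
      ← sub_eq_add_neg] at h1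
    simp only [π, β, Category.assoc]
    exact sub_eq_zero.1 h1
  obtain ⟨k, g, hk⟩ := hom_zero_stage hc (M1.isQCoh_kernel hr hF π) (M1.isFT_kernel hr' hFP π)
    (kernel.ι π ≫ β) (by rw [Category.assoc, ← hπψ, kernel.condition_assoc, zero_comp])
  rw [Category.assoc] at hk
  refine ⟨k, (Abelian.epiIsCokernelOfKernel _ (kernelIsKernel π)).desc (CokernelCofork.ofπ (β ≫ D.map g) hk), ?_⟩
  have e := (Abelian.epiIsCokernelOfKernel _ (kernelIsKernel π)).fac (CokernelCofork.ofπ (β ≫ D.map g) hk)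
    WalkingParallelPair.one
  simp only [CokernelCofork.ofπ, Cofork.ofπ_ι_app] at e
  rw [← cancel_epi π, reassoc_of% e, c.w, hπψ]

/-- The direct image along a qcqs morphism commutes with filtered colimits. -/
theorem isIso_push_desc {Y : Scheme.{u}} (f : Y ⟶ X) [QuasiCompact f] [QuasiSeparated f]
    {D : J ⥤ Y.Modules} {c : Cocone D} (hc : IsColimit c) {c' : Cocone (D ⋙ Scheme.Modules.pushforward f)}
    (hc' : IsColimit c') : IsIso (hc'.desc ((Scheme.Modules.pushforward f).mapCocone c)) := by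
  let φ := hc'.desc ((Scheme.Modules.pushforward f).mapCocone c)
  have hφ : ∀ (j : J) (W : X.Opens) (t : Γ(D.obj j, f ⁻¹ᵁ W)),
      φ.app W ((c'.ι.app j).app W t) = (c.ι.app j).app (f ⁻¹ᵁ W) t := fun j W t => by
    refine (comp_app_apply (c'.ι.app j) φ W t).symm.trans ?_
    rw [hc'.fac]
    rfl
  have hinj : ∀ W : X.Opens, IsAffineOpen W → Function.Injective (φ.app W) := fun W hW => by
    refine (injective_iff_map_eq_zero _).2 fun a ha => ?_
    obtain ⟨j, t, rfl⟩ := sec_rep hc' hW.isCompact hW.isQuasiSeparated a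
    obtain ⟨k, g, hg⟩ := sec_zero hc (f.isCompact_preimage hW.isCompact) t ((hφ j W t).symm.trans ha)
    rw [← c'.w g, comp_app_apply]
    refine (congrArg ((c'.ι.app k).app W) ?_).trans (map_zero _)
    exact hg
  have hsurj : ∀ W : X.Opens, IsAffineOpen W → Function.Surjective (φ.app W) := fun W hW s => by
    obtain ⟨j, t, ht⟩ := sec_rep hc (f.isCompact_preimage hW.isCompact)
      (f.isQuasiSeparated_preimage hW.isQuasiSeparated) s
    exact ⟨(c'.ι.app j).app W t, (hφ j W t).trans ht⟩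
  haveI : Mono φ := M1.mono_of_basis φ {W | IsAffineOpen W} X.isBasis_affineOpens hinj
  haveI : Epi φ := by
    rw [M1.epi_iff_locally_surjective]
    intro V s x hx
    obtain ⟨W, hW, hxW, hWV⟩ := exists_isAffineOpen_mem_and_subset (x := x) (U := V) hx
    obtain ⟨a, ha⟩ := hsurj W hW (mres _ hWV s)
    exact ⟨W, hWV, hxW, a, ha⟩
  exact isIso_of_mono_of_epi φ

end Groth.Agent.QCoh8
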