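import Groth.Prelude.Def_QCohCat
import Groth.Agent.Lib.ModM1.Local
import Groth.Agent.Lib.CohFound.ModulesInst
import Mathlib

/-!
# Quasi-coherent modules: abelian category, cocomplete, exact filtered colimits
-/

set_option autoImplicit false
set_option backward.isDefEq.respectTransparency false

universe u

open CategoryTheory CategoryTheory.Limits AlgebraicGeometry

namespace Groth.Agent.QCoh8

open Groth.Agent

variable (X : Scheme.{u})

instance isClosedUnderIsomorphisms : (QCohCat.isQCoh X).IsClosedUnderIsomorphisms :=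
  ⟨fun e h => M1.isQCoh_of_isIso e h⟩

instance containsZero : (QCohCat.isQCoh X).ContainsZero :=
  ⟨⟨_, isZero_kernel_of_mono (𝟙 (Coh.structureModule X)),
    M1.isQCoh_kernel (M1.isQCoh_structureModule X) (M1.isQCoh_structureModule X) _⟩⟩

instance isClosedUnderKernels : (QCohCat.isQCoh X).IsClosedUnderKernels where
  kernels_le := by
    rintro _ ⟨f, k, hk, hf⟩
    exact M1.isQCoh_of_isIso (IsLimit.conePointUniqueUpToIso (kernelIsKernel f) hk)
      (M1.isQCoh_kernel hf.1 hf.2 f)

instance isClosedUnderCokernels : (QCohCat.isQCoh X).IsClosedUnderCokernels where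
  cokernels_le := by
    rintro _ ⟨f, k, hk, hf⟩
    exact M1.isQCoh_of_isIso (IsColimit.coconePointUniqueUpToIso (cokernelIsCokernel f) hk)
      (M1.isQCoh_cokernel hf.1 hf.2 f)

lemma isQCoh_biprod {A B : X.Modules} (hA : Coh.IsQCoh A) (hB : Coh.IsQCoh B) : Coh.IsQCoh (A ⊞ B) :=
  M1.isQCoh_of_shortExact (S := ShortComplex.mk biprod.inl biprod.snd biprod.inl_snd)
    (ShortComplex.Splitting.ofHasBinaryBiproduct A B).shortExact hA hB

instance isClosedUnderFiniteProducts : (QCohCat.isQCoh X).IsClosedUnderFiniteProducts := by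
  haveI : (QCohCat.isQCoh X).IsClosedUnderBinaryProducts :=
    ⟨by
      rintro A ⟨p⟩
      let e : p.diag.obj ⟨WalkingPair.left⟩ ⊞ p.diag.obj ⟨WalkingPair.right⟩ ≅ A :=
        IsLimit.conePointUniqueUpToIso (BinaryBiproduct.isLimit _ _)
          ((IsLimit.postcomposeHomEquiv (diagramIsoPair p.diag) _).symm p.isLimit)
      exact M1.isQCoh_of_isIso e (isQCoh_biprod X (p.prop_diag_obj _) (p.prop_diag_obj _))⟩
  exact ObjectProperty.IsClosedUnderFiniteProducts.mk'

instance isClosedUnderColimitsOfShape (K : Type u) [SmallCategory K] :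
    (QCohCat.isQCoh X).IsClosedUnderColimitsOfShape K :=
  ⟨by
    rintro A ⟨p⟩
    exact M1.isQCoh_of_isColimit (K := K) (fun k => p.prop_diag_obj k) p.isColimit⟩

noncomputable instance abelianQCoh : Abelian (QCohCat.QCoh X) := inferInstance

instance hasColimits : HasColimitsOfSize.{u, u} (QCohCat.QCoh X) := ⟨fun _ _ => inferInstance⟩

instance preservesColimits : PreservesColimitsOfSize.{u, u} (QCohCat.isQCoh X).ι :=
  ⟨fun {K} _ => preservesColimitOfShape_of_createsColimitsOfShape_and_hasColimitsOfShape _⟩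

instance preservesFiniteLimits : PreservesFiniteLimits (QCohCat.isQCoh X).ι :=
  haveI : ∀ {A B : QCohCat.QCoh X} (f : A ⟶ B), PreservesLimit (parallelPair f 0) (QCohCat.isQCoh X).ι :=
    fun f => (QCohCat.isQCoh X).preservesKernels_ι f
  (QCohCat.isQCoh X).ι.preservesFiniteLimits_of_preservesKernels

instance reflectsFiniteLimits : ReflectsFiniteLimits (QCohCat.isQCoh X).ι := inferInstance

instance hasExactColimitsOfShape (K : Type u) [SmallCategory K] [IsFiltered K] :
    HasExactColimitsOfShape K (QCohCat.QCoh X) :=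
  HasExactColimitsOfShape.domain_of_functor K (QCohCat.isQCoh X).ι

end Groth.Agent.QCoh8
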