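import Groth.Agent.Lib.QCoh8.Colim

/-!
# Finitely presentable objects of QCoh
-/

set_option autoImplicit false
set_option backward.isDefEq.respectTransparency false

universe u

open CategoryTheory CategoryTheory.Limits AlgebraicGeometry TopologicalSpace Opposite

namespace Groth.Agent.QCoh8

open Groth.Agent Groth.Agent.M1

variable {X : Scheme.{u}}

theorem isFinitelyPresentable_of_isFP [CompactSpace X] [QuasiSeparatedSpace X] (F : QCohCat.QCoh X)
    (hFP : CohB1.IsFP F.obj) : IsFinitelyPresentable.{u} F := by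
  rw [isFinitelyPresentable_iff_preservesFilteredColimitsOfSize]
  refine ⟨fun J _ _ => ⟨fun {D} => ⟨fun {c} hc => ⟨Types.FilteredColimit.isColimitOf' _ _ (fun ψ => ?_) (fun j φ φ' h => ?_)⟩⟩⟩⟩
  · have hc' := isColimitOfPreserves (QCohCat.isQCoh X).ι hc
    obtain ⟨k, φ, hφ⟩ := hom_rep_stage hc' (fun j => (D.obj j).property) c.pt.property hFP ((show F ⟶ c.pt from ψ).hom)
    exact ⟨k, ObjectProperty.homMk φ, (ObjectProperty.hom_ext _ hφ).symm⟩
  · have hc' := isColimitOfPreserves (QCohCat.isQCoh X).ι hc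
    have h' : φ.hom ≫ (c.ι.app j).hom = φ'.hom ≫ (c.ι.app j).hom :=
      congrArg (fun f : F ⟶ c.pt => f.hom) h
    obtain ⟨k, g, hk⟩ := hom_zero_stage hc' F.property (M1.isFP_isFT hFP) (φ.hom - φ'.hom) (by
      rw [Preadditive.sub_comp, sub_eq_zero]; exact h')
    rw [Preadditive.sub_comp, sub_eq_zero] at hk
    exact ⟨k, g, ObjectProperty.hom_ext _ hk⟩

theorem exists_factor {F : QCohCat.QCoh X} [IsFinitelyPresentable.{u} F] {J : Type u} [SmallCategory J]
    [IsFiltered J] {D : J ⥤ QCohCat.QCoh X} {c : Cocone D} (hc : IsColimit c) (ψ : F ⟶ c.pt) :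
    ∃ (j : J) (φ : F ⟶ D.obj j), φ ≫ c.ι.app j = ψ :=
  IsFinitelyPresentable.exists_hom_of_isColimit hc ψ

theorem exists_eq {F : QCohCat.QCoh X} [IsFinitelyPresentable.{u} F] {J : Type u} [SmallCategory J]
    [IsFiltered J] {D : J ⥤ QCohCat.QCoh X} {c : Cocone D} (hc : IsColimit c) {i : J} (φ φ' : F ⟶ D.obj i)
    (h : φ ≫ c.ι.app i = φ' ≫ c.ι.app i) : ∃ (k : J) (g : i ⟶ k), φ ≫ D.map g = φ' ≫ D.map g :=
  by
  obtain ⟨k, p, q, hpq⟩ := IsFinitelyPresentable.exists_eq_of_isColimit hc φ φ' h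
  refine ⟨IsFiltered.coeq p q, p ≫ IsFiltered.coeqHom p q, ?_⟩
  conv_rhs => rw [IsFiltered.coeq_condition]
  rw [D.map_comp, D.map_comp, reassoc_of% hpq]

/-- Small index of the finite type subobjects. -/
structure StageFT (F : QCohCat.QCoh X) : Type u where
  /-- the shrunk value -/
  val : Shrink.{u} {S : Subobject F // CohB1.IsFT (toSub S).P}

/-- The subobject of an index. -/
noncomputable def StageFT.sub {F : QCohCat.QCoh X} (a : StageFT F) :
    {S : Subobject F // CohB1.IsFT (toSub S).P} := (equivShrink _).symm a.val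

/-- An index for a subobject. -/
noncomputable def StageFT.of {F : QCohCat.QCoh X} (S : {S : Subobject F // CohB1.IsFT (toSub S).P}) : StageFT F :=
  ⟨equivShrink _ S⟩

theorem StageFT.sub_of {F : QCohCat.QCoh X} (S : {S : Subobject F // CohB1.IsFT (toSub S).P}) :
    (StageFT.of S).sub = S := (equivShrink _).symm_apply_apply S

noncomputable instance {F : QCohCat.QCoh X} : Preorder (StageFT F) := Preorder.lift fun a => a.sub.1

theorem isFT_of_isFinitelyPresentable [CompactSpace X] [QuasiSeparatedSpace X] (F : QCohCat.QCoh X)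
    [IsFinitelyPresentable.{u} F] : CohB1.IsFT F.obj := by
  classical
  let J := StageFT F
  have hft : ∀ (p : M1.Sub F.obj) (hp : Coh.IsQCoh p.P), CohB1.IsFT p.P → CohB1.IsFT (toSub (ofSub p hp)).P := by
    intro p hp hp'
    obtain ⟨e, -⟩ := M1.Sub.exists_iso (toSub (ofSub p hp)) p (mem_ofSub p hp)
    exact M1.isFT_of_isIso e.symm hp'
  haveI : Nonempty J := by
    obtain ⟨q, hq, hq', -⟩ := exists_ft_mem F.property (U := ⊤) isCompact_univ (0 : Γ(F.obj, (⊤ : X.Opens)))
    exact ⟨StageFT.of ⟨ofSub q hq, hft q hq hq'⟩⟩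
  haveI : IsDirectedOrder J := ⟨fun a b => by
    obtain ⟨r, hr, hr', ha, hb⟩ := exists_sup F.property (toSub a.sub.1) (toSub b.sub.1)
      (isQCoh_toSub _) a.sub.2 (isQCoh_toSub _) b.sub.2
    refine ⟨StageFT.of ⟨ofSub r hr, hft r hr hr'⟩, ?_, ?_⟩
    · change a.sub.1 ≤ (StageFT.of _).sub.1
      rw [StageFT.sub_of]
      exact le_of_toSub fun U s hs => (mem_ofSub r hr U s).2 (ha U s hs)
    · change b.sub.1 ≤ (StageFT.of _).sub.1
      rw [StageFT.sub_of]
      exact le_of_toSub fun U s hs => (mem_ofSub r hr U s).2 (hb U s hs)⟩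
  let sub : J → Subobject F := fun a => a.sub.1
  let D : J ⥤ QCohCat.QCoh X :=
    { obj := fun a => cokernel (sub a).arrow
      map := fun {a b} h => cokernel.desc _ (cokernel.π (sub b).arrow) (by
        rw [← Subobject.ofLE_arrow (show sub a ≤ sub b from (leOfHom h : a ≤ b)), Category.assoc, cokernel.condition, comp_zero])
      map_id := fun a => coequalizer.hom_ext (by simp)
      map_comp := fun f g => coequalizer.hom_ext (by simp) }
  have hc := colimit.isColimit D
  let π : ∀ a, F ⟶ colimit D := fun a => cokernel.π (sub a).arrow ≫ colimit.ι D a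
  have hπle : ∀ a b, a ≤ b → π a = π b := fun a b h => by
    simp only [π]
    rw [← colimit.w D (homOfLE h)]
    simp [D]
  have hπ : ∀ a b, π a = π b := fun a b => by
    obtain ⟨d, h1, h2⟩ := exists_ge_ge a b
    rw [hπle a d h1, hπle b d h2]
  obtain ⟨a₀⟩ := ‹Nonempty J›
  obtain ⟨t, ht⟩ := exists_cover X
  have h0 : π a₀ = 0 := ObjectProperty.hom_ext _ <|
    hom_eq_zero_of_affine_cover F.property _ (fun i : t => i.1.1) (fun i => i.1.2) ht fun i s => by
      obtain ⟨q, hq, hq', hs⟩ := exists_ft_mem F.property i.1.2.isCompact s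
      let b : J := StageFT.of ⟨ofSub q hq, hft q hq hq'⟩
      have hb : sub b = ofSub q hq := congrArg Subtype.val (StageFT.sub_of _)
      have hs' : (toSub (sub b)).mem i.1.1 s := by rw [hb]; exact (mem_ofSub q hq _ s).2 hs
      obtain ⟨x, rfl⟩ := hs'
      rw [hπ a₀ b]
      have hz : (sub b).arrow ≫ π b = 0 := by simp [π]
      exact congrArg (fun φ : (sub b : QCohCat.QCoh X) ⟶ colimit D => φ.hom.app i.1.1 x) hz
  obtain ⟨k, g, hk⟩ := exists_eq hc (cokernel.π (sub a₀).arrow) 0 (by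
    rw [zero_comp]; exact h0)
  have hk' : cokernel.π (sub k).arrow = 0 := by simpa [D] using hk
  haveI : Epi (sub k).arrow := Abelian.epi_of_cokernel_π_eq_zero _ hk'
  haveI : IsIso (sub k).arrow := isIso_of_mono_of_epi _
  exact M1.isFT_of_isIso ((QCohCat.isQCoh X).ι.mapIso (asIso (sub k).arrow)) k.sub.2

theorem exists_desc_of_surjective {R : Type u} [CommRing R] {A : Type u} [AddCommGroup A] [Module R A]
    {N M : ModuleCat.{u} R} (f : A →ₗ[R] N) (hf : Function.Surjective f) (l : ModuleCat.of R A ⟶ M)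
    (h : LinearMap.ker f ≤ LinearMap.ker l.hom) : ∃ h' : N ⟶ M, ∀ x, h'.hom (f x) = l.hom x := by
  refine ⟨ModuleCat.ofHom ((Submodule.liftQ _ l.hom h).comp (f.quotKerEquivOfSurjective hf).symm.toLinearMap), fun x => ?_⟩
  change Submodule.liftQ _ l.hom h ((f.quotKerEquivOfSurjective hf).symm (f x)) = _
  rw [show (f.quotKerEquivOfSurjective hf).symm (f x) = Submodule.Quotient.mk x from
    (LinearEquiv.symm_apply_eq _).2 rfl]
  rfl

theorem finitePresentation_sections_of_isFinitelyPresentable [CompactSpace X] [QuasiSeparatedSpace X]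
    (F : QCohCat.QCoh X) [IsFinitelyPresentable.{u} F] (U : X.Opens) (hU : IsAffineOpen U) :
    Module.FinitePresentation Γ(X, U) Γ(F.obj, U) := by
  classical
  let R := Γ(X, U)
  let j := hU.fromSpec
  let G : (Spec R).Modules := F.obj.restrict j
  have hG : Coh.IsQCoh G := M1.isQCoh_fromSpec F.property hU
  have hGT : CohB1.IsFT G := M1.isFT_restrict (isFT_of_isFinitelyPresentable F) _
  haveI : G.IsQuasicoherent := hG
  suffices key : ∀ (N : ModuleCat.{u} R), ((tilde.functor R).obj N ≅ G) → Module.Finite R N →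
      Module.FinitePresentation R N by
    haveI : Module.FinitePresentation R Γ(G, ⊤) := key ((moduleSpecΓFunctor (R := R)).obj G)
      (@asIso _ _ _ _ G.fromTildeΓ (Scheme.Modules.isIso_fromTildeΓ_of_isQuasicoherent (R := R) G))
      (M1.finite_sections_spec G hG hGT)
    exact M1.finitePresentation_of_linearEquiv (M1.affineSecEquiv F.obj hU)
  intro N eG hN
  obtain ⟨n, f, hf⟩ := Module.Finite.exists_fin' R N
  suffices hK : (LinearMap.ker f).FG from Module.finitePresentation_of_surjective f hf hK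
  let I := {S : Submodule R (Fin n → R) // S.FG ∧ S ≤ LinearMap.ker f}
  haveI : Nonempty I := ⟨⟨⊥, Submodule.fg_bot, bot_le⟩⟩
  haveI : IsDirectedOrder I := ⟨fun a b => ⟨⟨a.1 ⊔ b.1, a.2.1.sup b.2.1, sup_le a.2.2 b.2.2⟩,
    (le_sup_left : a.1 ≤ a.1 ⊔ b.1), (le_sup_right : b.1 ≤ a.1 ⊔ b.1)⟩⟩
  let Q : I ⥤ ModuleCat.{u} R :=
    { obj := fun S => ModuleCat.of R ((Fin n → R) ⧸ S.1)
      map := fun {S T} h => ModuleCat.ofHom (Submodule.factor (show S.1 ≤ T.1 from leOfHom h))
      map_id := fun S => by ext : 1; exact Submodule.linearMap_qext _ rfl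
      map_comp := fun f g => by ext : 1; exact Submodule.linearMap_qext _ rfl }
  let D₀ : I ⥤ (Spec R).Modules := Q ⋙ tilde.functor R
  let c₀ := colimit.cocone D₀
  have hc₀ : IsColimit c₀ := colimit.isColimit D₀
  haveI : QuasiCompact j := inferInstance
  haveI : QuasiSeparated j := inferInstance
  let D₁ : I ⥤ QCohCat.QCoh X := (QCohCat.isQCoh X).lift (D₀ ⋙ Scheme.Modules.pushforward j)
    fun S => M1.isQCoh_push j (inferInstanceAs (Coh.IsQCoh (tilde (Q.obj S))))
  let c₁ := colimit.cocone D₁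
  have hc₁ : IsColimit c₁ := colimit.isColimit D₁
  have hc₁' : IsColimit (((QCohCat.isQCoh X).ι).mapCocone c₁) := isColimitOfPreserves _ hc₁
  let κ := hc₁'.desc ((Scheme.Modules.pushforward j).mapCocone c₀)
  haveI : IsIso κ := isIso_push_desc j hc₀ (D := D₀) (c' := (QCohCat.isQCoh X).ι.mapCocone c₁) hc₁'
  let A : ModuleCat.{u} R := ModuleCat.of R (Fin n → R)
  let mk : ∀ S : I, A ⟶ Q.obj S := fun S => ModuleCat.ofHom S.1.mkQ
  let ℓ : ∀ S : I, A ⟶ moduleSpecΓFunctor.obj c₀.pt := fun S =>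
    mk S ≫ tilde.adjunction.homEquiv _ _ (c₀.ι.app S)
  have hℓle : ∀ S T : I, S ≤ T → ℓ S = ℓ T := fun S T h => by
    simp only [ℓ]
    rw [← c₀.w (homOfLE h)]
    change mk S ≫ tilde.adjunction.homEquiv _ _ ((tilde.functor R).map (Q.map (homOfLE h)) ≫ c₀.ι.app T) = _
    rw [Adjunction.homEquiv_naturality_left, ← Category.assoc]
    rfl
  have hℓ : ∀ S T : I, ℓ S = ℓ T := fun S T => by
    obtain ⟨d, h1, h2⟩ := exists_ge_ge S T
    rw [hℓle S d h1, hℓle T d h2]
  obtain ⟨S₀⟩ := ‹Nonempty I›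
  have hker : LinearMap.ker f ≤ LinearMap.ker (ℓ S₀).hom := fun x hx => by
    let S : I := ⟨Submodule.span R {x}, Submodule.fg_span_singleton x, by
      rw [Submodule.span_singleton_le_iff_mem]; exact hx⟩
    rw [LinearMap.mem_ker, hℓ S₀ S]
    change (tilde.adjunction.homEquiv _ _ (c₀.ι.app S)).hom (S.1.mkQ x) = 0
    rw [(Submodule.Quotient.mk_eq_zero S.1).2 (Submodule.mem_span_singleton_self x) |> fun h =>
      (show S.1.mkQ x = 0 from h), map_zero]
  obtain ⟨h', hh'⟩ := exists_desc_of_surjective f hf (ℓ S₀) hker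
  let h : G ⟶ c₀.pt := eG.inv ≫ (tilde.adjunction.homEquiv _ _).symm h'
  let adj := Scheme.Modules.restrictAdjunction j
  let ψ : F ⟶ c₁.pt := ObjectProperty.homMk (adj.homEquiv _ _ h ≫ inv κ)
  obtain ⟨S, φ, hφ⟩ := exists_factor hc₁ ψ
  have hφ' : φ.hom ≫ (Scheme.Modules.pushforward j).map (c₀.ι.app S) = adj.homEquiv _ _ h := by
    have e1 : φ.hom ≫ (c₁.ι.app S).hom = adj.homEquiv _ _ h ≫ inv κ :=
      congrArg (fun f : F ⟶ c₁.pt => f.hom) hφ
    rw [← cancel_mono (inv κ), ← e1, Category.assoc]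
    congr 1
    rw [IsIso.comp_inv_eq]
    exact (hc₁'.fac ((Scheme.Modules.pushforward j).mapCocone c₀) S).symm
  let g : N ⟶ moduleSpecΓFunctor.obj (D₀.obj S) :=
    tilde.adjunction.homEquiv _ _ (eG.hom ≫ (adj.homEquiv _ _).symm φ.hom)
  have hg : g ≫ moduleSpecΓFunctor.map (c₀.ι.app S) = h' := by
    simp only [g]
    rw [← Adjunction.homEquiv_naturality_right, Category.assoc, ← adj.homEquiv_naturality_right_symm, hφ']
    dsimp only [Functor.const_obj_obj]
    rw [Equiv.symm_apply_apply]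
    simp [h]
  -- the two lifts of the generators agree at a later stage
  let u : ∀ T : I, Q.obj T ⟶ moduleSpecΓFunctor.obj (D₀.obj T) := fun T => tilde.adjunction.unit.app (Q.obj T)
  let v : (Fin n) → Γ(D₀.obj S, ⊤) := fun i => g.hom (f (Pi.single i 1)) - (u S).hom (S.1.mkQ (Pi.single i 1))
  have hv : ∀ i ∈ (Finset.univ : Finset (Fin n)), (c₀.ι.app S).app ⊤ (v i) = 0 := fun i _ => by
    rw [map_sub, sub_eq_zero]
    refine ((congrArg (fun φ : N ⟶ moduleSpecΓFunctor.obj c₀.pt => φ.hom (f (Pi.single i 1))) hg).trans (hh' _)).trans ?_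
    rw [hℓ S₀ S]
    rfl
  obtain ⟨T, gST, hT⟩ := sec_zero_finset hc₀ Finset.univ (fun _ : Fin n => (⊤ : (Spec R).Opens))
    (fun _ _ => isCompact_univ) v hv
  have hTeq : (g ≫ moduleSpecΓFunctor.map (D₀.map gST)).hom.comp f = ((mk T) ≫ u T).hom := by
    refine LinearMap.pi_ext' fun i => LinearMap.ext_ring ?_
    have e := hT i (Finset.mem_univ i)
    rw [map_sub, sub_eq_zero] at e
    refine e.trans ?_
    exact (congrArg (fun φ : Q.obj S ⟶ moduleSpecΓFunctor.obj (D₀.obj T) => φ.hom (S.1.mkQ (Pi.single i 1)))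
      (tilde.adjunction.unit.naturality (Q.map gST))).symm
  have hle : LinearMap.ker f ≤ T.1 := fun x hx => by
    have e := LinearMap.congr_fun hTeq x
    rw [LinearMap.comp_apply, show f x = 0 from hx, map_zero] at e
    have hinj : Function.Injective (u T).hom := (ModuleCat.mono_iff_injective _).1 inferInstance
    exact (Submodule.Quotient.mk_eq_zero T.1).1 (hinj (e.symm.trans (map_zero _).symm))
  rw [le_antisymm hle T.2.2]
  exact T.2.1

theorem isFinitelyPresentable_iff [CompactSpace X] [QuasiSeparatedSpace X] (F : QCohCat.QCoh X) :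
    IsFinitelyPresentable.{u} F ↔ CohB1.IsFP F.obj :=
  ⟨fun _ => M1.isFP_of_finitePresentation_sections F.property
    (finitePresentation_sections_of_isFinitelyPresentable F), isFinitelyPresentable_of_isFP F⟩

end Groth.Agent.QCoh8
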