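import Groth.Agent.Lib.QCoh8.Separator

/-!
# Quasi-coherent modules form a Grothendieck abelian category
-/

set_option autoImplicit false
set_option backward.isDefEq.respectTransparency false

universe u

open CategoryTheory CategoryTheory.Limits AlgebraicGeometry Opposite

namespace Groth.Agent.QCoh8

open Groth.Agent Groth.Agent.M1

variable (X : Scheme.{u})

/-- The product in which a generated submodule embeds. -/
noncomputable abbrev target (i₀ : X.affineOpens)
    (K : ∀ j : X.affineOpens, Subobject (M1.fr (X := (j.1 : Scheme.{u})) (Idx i₀ j))) : X.Modules :=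
  ∏ᶜ fun j : X.affineOpens => (Scheme.Modules.pushforward j.1.ι).obj (cokernel (K j).arrow)

/-- The index type of the separating family. -/
def SepIdx : Type (u + 1) :=
  Σ (i₀ : X.affineOpens) (K : ∀ j : X.affineOpens, Subobject (M1.fr (X := (j.1 : Scheme.{u})) (Idx i₀ j))),
    {S : Subobject (target X i₀ K) // QCohCat.isQCoh X (S : X.Modules)}

instance small_sepIdx : Small.{u} (SepIdx X) := by unfold SepIdx; infer_instance

/-- The object of an index. -/
noncomputable def sepObj (x : SepIdx X) : QCohCat.QCoh X := ⟨(x.2.2.1 : X.Modules), x.2.2.2⟩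

/-- The separating family. -/
noncomputable def sep (x : Shrink.{u} (SepIdx X)) : QCohCat.QCoh X :=
  sepObj X ((equivShrink (SepIdx X)).symm x)

theorem sep_equivShrink (x : SepIdx X) : sep X (equivShrink (SepIdx X) x) = sepObj X x :=
  congrArg (sepObj X) ((equivShrink (SepIdx X)).symm_apply_apply x)

theorem isSeparating_sep : ObjectProperty.IsSeparating (.ofObj (sep X)) := by
  intro M N φ ψ h
  refine ObjectProperty.hom_ext _ ?_
  ext T a
  refine modules_eq_of_locally_eq N.obj T (fun j : {j : X.affineOpens // j.1 ≤ T} => j.1.1)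
    (fun j => j.2) (fun x hx => ?_) _ _ fun j => ?_
  · obtain ⟨U, hU, hxU, hUT⟩ := exists_isAffineOpen_mem_and_subset (x := x) (U := T) hx
    exact TopologicalSpace.Opens.mem_iSup.2 ⟨⟨⟨U, hU⟩, hUT⟩, hxU⟩
  obtain ⟨⟨i₀, hi₀⟩, rfl⟩ : ∃ i : {j : X.affineOpens // j.1 ≤ T}, i = j := ⟨j, rfl⟩
  rw [← app_mres, ← app_mres]
  let s : Γ(M.obj, i₀.1) := mres M.obj hi₀ a
  haveI : Coh.IsQCoh M.obj := M.property
  obtain ⟨K, m, hm⟩ := exists_mono_prod (gen M.obj s).P (fun j => Idx i₀ j) (exists_epi_gen M.obj s)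
  let S : Subobject (target X i₀ K) := Subobject.mk m
  have hS : QCohCat.isQCoh X (S : X.Modules) :=
    M1.isQCoh_of_isIso (Subobject.underlyingIso m).symm (isQCoh_gen M.obj s)
  let x : SepIdx X := ⟨i₀, K, S, hS⟩
  let G : QCohCat.QCoh X := sepObj X x
  have hG : ObjectProperty.ofObj (sep X) G :=
    (ObjectProperty.ofObj_iff (sep X) G).2 ⟨equivShrink (SepIdx X) x, sep_equivShrink X x⟩
  have h' := congrArg (fun f => f.hom) (h G hG (ObjectProperty.homMk ((Subobject.underlyingIso m).hom ≫ (gen M.obj s).i)))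
  have h'' : (gen M.obj s).i ≫ φ.hom = (gen M.obj s).i ≫ ψ.hom := by
    rw [← cancel_epi (Subobject.underlyingIso m).hom, ← Category.assoc, ← Category.assoc]
    exact h'
  obtain ⟨b, hb⟩ := mem_gen_val M.obj s i₀ Idx.seed
  change φ.hom.app i₀.1 (val M.obj s Idx.seed) = ψ.hom.app i₀.1 (val M.obj s Idx.seed)
  rw [← hb, ← comp_app_apply, ← comp_app_apply, h'']

instance isGrothendieckAbelian_qcoh : IsGrothendieckAbelian.{u} (QCohCat.QCoh X) where
  hasFilteredColimitsOfSize := ⟨fun _ _ _ => inferInstance⟩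
  ab5OfSize := ⟨fun K _ _ => inferInstance⟩
  hasSeparator := ⟨_, (isSeparating_sep X).isSeparator_coproduct⟩

theorem isLeftAdjoint_of_preservesColimits {A : Type*} [Category.{u} A] (F : QCohCat.QCoh X ⥤ A)
    [PreservesColimitsOfSize.{u, u} F] : F.IsLeftAdjoint :=
  isLeftAdjoint_of_preservesColimits_of_isSeparating (isSeparating_sep X) F

theorem isLeftAdjoint_ι : (QCohCat.isQCoh X).ι.IsLeftAdjoint :=
  isLeftAdjoint_of_preservesColimits X _

end Groth.Agent.QCoh8
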