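import Groth.Agent.Lib.QCoh8.FP
import Groth.Agent.Lib.CohFound.DevissageModel
import Groth.Agent.Lib.Twist.Triv
import Groth.Agent.Lib.ModM1.LocFree

/-!
# A qcqs scheme whose quasi-coherent modules form a module category is affine
-/

set_option autoImplicit false
set_option backward.isDefEq.respectTransparency false

universe u

open CategoryTheory CategoryTheory.Limits AlgebraicGeometry TopologicalSpace Opposite

namespace Groth.Agent.QCoh8

open Groth.Agent Groth.Agent.M1

variable {X : Scheme.{u}} {R : Type u} [CommRing R]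

/-- The structure sheaf in QCoh. -/
noncomputable abbrev structQ (X : Scheme.{u}) : QCohCat.QCoh X :=
  ⟨Coh.structureModule X, M1.isQCoh_structureModule X⟩

theorem fg_of_isFinitelyPresentable (M : ModuleCat.{u} R) [IsFinitelyPresentable.{u} M] :
    Module.Finite R M := by
  classical
  let J := {S : Submodule R M // S.FG}
  haveI : Nonempty J := ⟨⟨⊥, Submodule.fg_bot⟩⟩
  haveI : IsDirectedOrder J := ⟨fun a b => ⟨⟨a.1 ⊔ b.1, a.2.sup b.2⟩,
    (le_sup_left : a.1 ≤ a.1 ⊔ b.1), (le_sup_right : b.1 ≤ a.1 ⊔ b.1)⟩⟩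
  let D : J ⥤ ModuleCat.{u} R :=
    { obj := fun S => ModuleCat.of R (M ⧸ S.1)
      map := fun {S T} h => ModuleCat.ofHom (Submodule.factor (show S.1 ≤ T.1 from (leOfHom h : S ≤ T)))
      map_id := fun S => by ext : 1; exact Submodule.linearMap_qext _ rfl
      map_comp := fun f g => by ext : 1; exact Submodule.linearMap_qext _ rfl }
  let c := colimit.cocone D
  let π : ∀ S : J, M ⟶ c.pt := fun S => ModuleCat.ofHom S.1.mkQ ≫ c.ι.app S
  have hπle : ∀ S T : J, S ≤ T → π S = π T := fun S T h => by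
    simp only [π]
    rw [← c.w (homOfLE h)]
    rfl
  have hπ : ∀ S T : J, π S = π T := fun S T => by
    obtain ⟨d, h1, h2⟩ := exists_ge_ge S T
    rw [hπle S d h1, hπle T d h2]
  obtain ⟨S₀⟩ := ‹Nonempty J›
  have h0 : π S₀ = 0 := by
    ext x
    let S : J := ⟨Submodule.span R {x}, Submodule.fg_span_singleton x⟩
    rw [hπ S₀ S]
    change (c.ι.app S).hom (S.1.mkQ x) = 0
    rw [show S.1.mkQ x = 0 from (Submodule.Quotient.mk_eq_zero S.1).2 (Submodule.mem_span_singleton_self x), map_zero]
  obtain ⟨k, p, q, hpq⟩ := IsFinitelyPresentable.exists_eq_of_isColimit (colimit.isColimit D)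
    (ModuleCat.ofHom S₀.1.mkQ : M ⟶ D.obj S₀) (0 : M ⟶ D.obj S₀) (by rw [zero_comp]; exact h0)
  rw [zero_comp] at hpq
  refine ⟨?_⟩
  have : (⊤ : Submodule R M) = k.1 := (eq_top_iff.2 fun x _ =>
    (Submodule.Quotient.mk_eq_zero k.1).1 (congrArg (fun φ : M ⟶ D.obj k => φ.hom x) hpq)).symm
  rw [this]; exact k.2

variable (e : QCohCat.QCoh X ≌ ModuleCat.{u} R)

/-- The endomorphism of a quasi-coherent module given by an element of `R`. -/
noncomputable def act (r : R) (M : QCohCat.QCoh X) : M ⟶ M :=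
  e.unitIso.hom.app M ≫ e.inverse.map (r • 𝟙 (e.functor.obj M)) ≫ e.unitIso.inv.app M

theorem act_nat (r : R) {M N : QCohCat.QCoh X} (g : M ⟶ N) : g ≫ act e r N = act e r M ≫ g := by
  have h : e.functor.map g ≫ (r • 𝟙 (e.functor.obj N)) = (r • 𝟙 (e.functor.obj M)) ≫ e.functor.map g := by
    rw [Linear.comp_smul, Linear.smul_comp, Category.comp_id, Category.id_comp]
  have hh := congrArg e.inverse.map h
  rw [Functor.map_comp, Functor.map_comp] at hh
  have h1 := e.unitIso.hom.naturality g
  have h2 := e.unitIso.inv.naturality g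
  simp only [Functor.id_map, Functor.comp_map] at h1 h2
  simp only [act, Category.assoc]
  rw [reassoc_of% h1, reassoc_of% hh, h2]

theorem act_one (M : QCohCat.QCoh X) : act e 1 M = 𝟙 M := by
  simp [act]

theorem act_mul (r r' : R) (M : QCohCat.QCoh X) : act e (r * r') M = act e r' M ≫ act e r M := by
  have h : (r * r') • 𝟙 (e.functor.obj M) = (r' • 𝟙 (e.functor.obj M)) ≫ (r • 𝟙 (e.functor.obj M)) := by
    rw [Linear.comp_smul, Category.comp_id, smul_smul]
  simp only [act, Category.assoc, Iso.inv_hom_id_app_assoc]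
  rw [h, Functor.map_comp, Category.assoc]

theorem act_add (r r' : R) (M : QCohCat.QCoh X) : act e (r + r') M = act e r M + act e r' M := by
  haveI : e.inverse.Additive := Functor.additive_of_preserves_binary_products _
  simp only [act, add_smul, Functor.map_add, Preadditive.add_comp, Preadditive.comp_add]

/-- The action on global functions. -/
noncomputable def fn (r : R) : Γ(X, ⊤) := (act e r (structQ X)).hom.app ⊤ (M1.one ⊤)

/-- The global function map. -/
noncomputable def fnHom : R →+* Γ(X, ⊤) :=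
  RingHom.mk'
    { toFun := fn e
      map_one' := by simp [fn, act_one]; rfl
      map_mul' := fun r r' => by
        have h : (act e r' (structQ X)).hom.app ⊤ (M1.one ⊤) = (fn e r' : Γ(X, ⊤)) • M1.one ⊤ :=
          (mul_one (fn e r')).symm
        refine (congrArg (fun φ : structQ X ⟶ structQ X => φ.hom.app ⊤ (M1.one ⊤)) (act_mul e r r' _)).trans ?_
        change (act e r (structQ X)).hom.app ⊤ ((act e r' (structQ X)).hom.app ⊤ (M1.one ⊤)) = _
        refine (congrArg _ h).trans ?_
        rw [Scheme.Modules.Hom.app_smul]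
        exact mul_comm (fn e r') (fn e r) }
    (fun r r' => by
      simp only [MonoidHom.coe_mk, OneHom.coe_mk, fn, act_add]
      rfl)

/-- An element acts as the multiplication by its function. -/
theorem act_app [QuasiSeparatedSpace X] (r : R) (M : QCohCat.QCoh X) {U : X.Opens} (hU : IsAffineOpen U)
    (s : Γ(M.obj, U)) : (act e r M).hom.app U s = rs U (fn e r) • s := by
  haveI : CompactSpace (U : Scheme.{u}) := isCompact_iff_compactSpace.1 hU.isCompact
  haveI : QuasiSeparated U.ι := inferInstance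
  haveI : QuasiCompact U.ι := inferInstance
  let N : QCohCat.QCoh X := ⟨(Scheme.Modules.pushforward U.ι).obj (M.obj.restrict U.ι),
    M1.isQCoh_push U.ι (M1.isQCoh_restrict M.property _)⟩
  let η : M ⟶ N := ObjectProperty.homMk ((Scheme.Modules.restrictAdjunction U.ι).unit.app M.obj)
  let s' : Γ(N.obj, ⊤) := (M.obj.restrictAppIso U.ι (U.ι ⁻¹ᵁ ⊤)).inv (mres M.obj U.ι_image_top.le s)
  let g : structQ X ⟶ N := ObjectProperty.homMk (M1.secHom s')
  have h1 : (act e r N).hom.app ⊤ s' = fn e r • s' := by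
    have h := congrArg (fun φ : structQ X ⟶ N => φ.hom.app ⊤ (M1.one ⊤)) (act_nat e r g)
    have hg : g.hom.app ⊤ (M1.one ⊤) = s' := M1.secHom_app_one s'
    have hone : (act e r (structQ X)).hom.app ⊤ (M1.one ⊤) = (fn e r : Γ(X, ⊤)) • M1.one ⊤ := (mul_one (fn e r)).symm
    calc (act e r N).hom.app ⊤ s' = (act e r N).hom.app ⊤ (g.hom.app ⊤ (M1.one ⊤)) := by rw [hg]
      _ = g.hom.app ⊤ ((act e r (structQ X)).hom.app ⊤ (M1.one ⊤)) := h
      _ = fn e r • s' := by rw [hone, Scheme.Modules.Hom.app_smul, hg]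
  have hUU : U.ι ''ᵁ (U.ι ⁻¹ᵁ U) ≤ U := U.ι.image_preimage_le U
  have e1 : η.hom.app U s = mres N.obj (le_top : U ≤ ⊤) s' := by
    change mres M.obj hUU s = mres M.obj (U.ι.image_mono (U.ι.preimage_mono (le_top : U ≤ ⊤))) (mres M.obj U.ι_image_top.le s)
    exact (mres_mres M.obj _ _ s).symm
  have h2 : η.hom.app U ((act e r M).hom.app U s) = η.hom.app U (rs U (fn e r) • s) := by
    rw [Scheme.Modules.Hom.app_smul, e1]
    have h := congrArg (fun φ : M ⟶ N => φ.hom.app U s) (act_nat e r η)
    refine h.symm.trans ?_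
    change (act e r N).hom.app U (η.hom.app U s) = _
    rw [e1, app_mres, h1, Scheme.Modules.map_smul]
  have hinj : Function.Injective (mres M.obj hUU) := by
    refine Function.LeftInverse.injective (g := mres M.obj (by rw [U.ι_preimage_self, U.ι_image_top]) ) fun a => ?_
    rw [mres_mres, mres_id]
  exact hinj h2

/-- The structure sheaf of the reduced closed subscheme as a quotient of the structure sheaf. -/
theorem exists_quotient [CompactSpace X] (Z : Closeds X) :
    ∃ (Q : QCohCat.QCoh X) (u : structQ X ⟶ Q) (_ : Epi u),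
      CohB1.support Q.obj ⊆ (Z : Set X) ∧
      ∀ f : Γ(X, ⊤), f • u.hom.app ⊤ (M1.one ⊤) = 0 ↔ Disjoint (X.basicOpen f : Set X) Z := by
  let I := Scheme.IdealSheafData.vanishingIdeal Z
  let i := I.subschemeι
  have hr : Set.range i = (Z : Set X) := by
    rw [Scheme.IdealSheafData.range_subschemeι, Scheme.IdealSheafData.coe_support_vanishingIdeal]
  haveI : IsReduced I.subscheme := RedSepLib.isReduced_vanishingIdeal_subscheme _
  let N := (Scheme.Modules.pushforward i).obj (Coh.structureModule I.subscheme)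
  have hN : Coh.IsQCoh N := M1.isQCoh_push i (M1.isQCoh_structureModule _)
  let one' : Γ(N, ⊤) := (M1.one (i ⁻¹ᵁ ⊤) : Γ(Coh.structureModule I.subscheme, i ⁻¹ᵁ ⊤))
  let v : Coh.structureModule X ⟶ N := M1.secHom one'
  haveI : Epi v := by
    rw [M1.epi_iff_locally_surjective]
    intro V t x hx
    obtain ⟨W, hW, hxW, hWV⟩ := exists_isAffineOpen_mem_and_subset (x := x) (U := V) hx
    obtain ⟨a, ha⟩ := i.app_surjective W hW (mres N hWV t : Γ(I.subscheme, i ⁻¹ᵁ W))
    refine ⟨W, hWV, hxW, a, (Twist.secHom_app one' W a).trans ?_⟩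
    refine Eq.trans ?_ ha
    change (i.app W a : Γ(I.subscheme, i ⁻¹ᵁ W)) * (I.subscheme.presheaf.map
      (homOfLE (i.preimage_mono (le_top : W ≤ ⊤))).op (1 : Γ(I.subscheme, i ⁻¹ᵁ ⊤)) : Γ(I.subscheme, i ⁻¹ᵁ W)) = i.app W a
    rw [map_one, mul_one]
  let Q : QCohCat.QCoh X := ⟨N, hN⟩
  let u : structQ X ⟶ Q := ObjectProperty.homMk v
  haveI : Epi u := (QCohCat.isQCoh X).ι.epi_of_epi_map (inferInstanceAs (Epi v))
  refine ⟨Q, u, inferInstance, (CohFound.support_push_subset i _).trans hr.le, fun f => ?_⟩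
  have h1 : u.hom.app ⊤ (M1.one ⊤) = one' := M1.secHom_app_one one'
  rw [h1]
  change i.app ⊤ f * (1 : Γ(I.subscheme, i ⁻¹ᵁ ⊤)) = 0 ↔ _
  rw [mul_one, ← AlgebraicGeometry.basicOpen_eq_bot_iff, ← Scheme.preimage_basicOpen, ← hr, Set.disjoint_right]
  constructor
  · rintro h _ ⟨z, rfl⟩ hz
    have : z ∈ i ⁻¹ᵁ X.basicOpen f := hz
    rw [h] at this
    exact this
  · intro h
    refine Opens.ext (Set.eq_empty_iff_forall_notMem.2 fun z hz => h ⟨z, rfl⟩ hz)

/-- A nonzero quotient of a module which is not killed outside a maximal ideal. -/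
theorem exists_hom_quotient {N : ModuleCat.{u} R} [Module.Finite R N] (m : Ideal R) [m.IsMaximal]
    (h : Module.annihilator R N ≤ m) : ∃ φ : N ⟶ ModuleCat.of R (R ⧸ m), Epi φ := by
  classical
  have htop : (m • ⊤ : Submodule R N) ≠ ⊤ := fun he => by
    obtain ⟨a, ha, hz⟩ := Submodule.exists_sub_one_mem_and_smul_eq_zero_of_fg_of_le_smul m ⊤
      Module.Finite.fg_top he.ge
    have : a ∈ m := h (Module.mem_annihilator.2 fun x => hz x trivial)
    exact (Ideal.IsMaximal.ne_top ‹_›) ((Ideal.eq_top_iff_one _).2 (by simpa using m.sub_mem this ha))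
  letI := Ideal.Quotient.field m
  haveI : Nontrivial (N ⧸ (m • ⊤ : Submodule R N)) := Submodule.Quotient.nontrivial_iff.2 htop
  haveI : Module.Free (R ⧸ m) (N ⧸ (m • ⊤ : Submodule R N)) := Module.Free.of_divisionRing _ _
  let b := Module.Free.chooseBasis (R ⧸ m) (N ⧸ (m • ⊤ : Submodule R N))
  obtain ⟨i⟩ := b.index_nonempty
  let φ : N →ₗ[R] R ⧸ m := ((b.coord i).restrictScalars R).comp (Submodule.mkQ _)
  refine ⟨ModuleCat.ofHom φ, (ModuleCat.epi_iff_surjective _).2 fun y => ?_⟩
  obtain ⟨x, hx⟩ := Submodule.Quotient.mk_surjective _ (y • b i)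
  exact ⟨x, by simp [φ, hx]⟩

theorem isAffine_of_equivalence [CompactSpace X] [QuasiSeparatedSpace X] (e : QCohCat.QCoh X ≌ ModuleCat.{u} R) :
    IsAffine X := by
  classical
  haveI : IsFinitelyPresentable.{u} (structQ X) := (isFinitelyPresentable_iff _).2
    (M1.isFP_of_finitePresentation_sections (M1.isQCoh_structureModule X) fun U _ =>
      (inferInstanceAs (Module.FinitePresentation Γ(X, U) Γ(X, U))))
  haveI hOfg : Module.Finite R (e.functor.obj (structQ X)) := fg_of_isFinitelyPresentable _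
  have hfin : ∀ {Q : QCohCat.QCoh X} (u : structQ X ⟶ Q) [Epi u], Module.Finite R (e.functor.obj Q) :=
    fun u _ => Module.Finite.of_surjective (e.functor.map u).hom
      ((ModuleCat.epi_iff_surjective _).1 inferInstance)
  let T : Set R := {r | IsAffineOpen (X.basicOpen (fn e r))}
  have hloc : ∀ x : X, IsClosed ({x} : Set X) → ∃ r ∈ T, x ∈ X.basicOpen (fn e r) := by
    intro x hx
    obtain ⟨U, hU, hxU, -⟩ := exists_isAffineOpen_mem_and_subset (x := x) (U := ⊤) trivial
    obtain ⟨Q, u, hu, hQs, hQ⟩ := exists_quotient (X := X) ⟨(U : Set X)ᶜ, U.isOpen.isClosed_compl⟩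
    obtain ⟨K, v, hv, hKs, hK⟩ := exists_quotient (X := X) ⟨{x}, hx⟩
    haveI := hfin u
    haveI := hfin v
    have key : ¬ Module.annihilator R (e.functor.obj Q) ≤ Module.annihilator R (e.functor.obj K) := by
      intro hle
      have hne : Module.annihilator R (e.functor.obj K) ≠ ⊤ := fun htop => by
        have h1 : (1 : Γ(X, ⊤)) • v.hom.app ⊤ (M1.one ⊤) = 0 := by
          have hk : (act e 1 K) = 0 := by
            have : (1 : R) • 𝟙 (e.functor.obj K) = 0 := by
              ext y
              exact Module.mem_annihilator.1 (htop ▸ Submodule.mem_top) y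
            haveI hadd : e.inverse.Additive := Functor.additive_of_preserves_binary_products _
            unfold act
            rw [this, Functor.map_zero, zero_comp, comp_zero]
          rw [act_one] at hk
          rw [one_smul]
          exact congrArg (fun φ : K ⟶ K => φ.hom.app ⊤ (v.hom.app ⊤ (M1.one ⊤))) hk
        have := (hK 1).1 h1
        rw [Scheme.basicOpen_one] at this
        exact Set.disjoint_left.1 this (Set.mem_univ x) rfl
      obtain ⟨m, hm, hle'⟩ := Ideal.exists_le_maximal _ hne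
      obtain ⟨φ, hφ⟩ := exists_hom_quotient (N := e.functor.obj Q) m (hle.trans hle')
      obtain ⟨ψ, hψ⟩ := exists_hom_quotient (N := e.functor.obj K) m hle'
      let S := e.inverse.obj (ModuleCat.of R (R ⧸ m))
      let p : Q ⟶ S := e.unitIso.hom.app Q ≫ e.inverse.map φ
      let q : K ⟶ S := e.unitIso.hom.app K ≫ e.inverse.map ψ
      haveI : Epi ((QCohCat.isQCoh X).ι.map p) := inferInstance
      haveI : Epi ((QCohCat.isQCoh X).ι.map q) := inferInstance
      have hzero : ∀ y : X, Subsingleton (S.obj.presheaf.stalk y) := fun y => by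
        by_cases hy : y = x
        · have h0 : Subsingleton ((stalkAb y).obj Q.obj) := by
            by_contra hc
            exact hQs hc (hy ▸ hxU)
          exact ((M1.epi_iff_stalk p.hom).1 ‹_› y).subsingleton
        · have h0 : Subsingleton ((stalkAb y).obj K.obj) := by
            by_contra hc
            exact hy (hKs hc)
          exact ((M1.epi_iff_stalk q.hom).1 ‹_› y).subsingleton
      have hS : IsZero S := by
        rw [IsZero.iff_id_eq_zero]
        refine ObjectProperty.hom_ext _ ?_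
        ext V s
        exact M1.section_ext _ _ fun y hy => (hzero y).elim _ _
      have hRm : IsZero (ModuleCat.of R (R ⧸ m)) :=
        (e.functor.map_isZero hS).of_iso (e.counitIso.app (ModuleCat.of R (R ⧸ m))).symm
      haveI := ModuleCat.subsingleton_of_isZero hRm
      exact one_ne_zero (α := R ⧸ m) (Subsingleton.elim _ _)
    obtain ⟨r, hrQ, hrK⟩ := SetLike.not_le_iff_exists.1 key
    haveI : e.inverse.Additive := Functor.additive_of_preserves_binary_products _
    have hQ0 : act e r Q = 0 := by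
      have : r • 𝟙 (e.functor.obj Q) = 0 := by ext y; exact Module.mem_annihilator.1 hrQ y
      simp only [act, this, Functor.map_zero, zero_comp, comp_zero]
    have hval : ∀ {P : QCohCat.QCoh X} (w : structQ X ⟶ P),
        (act e r P).hom.app ⊤ (w.hom.app ⊤ (M1.one ⊤)) = fn e r • w.hom.app ⊤ (M1.one ⊤) := fun {P} w => by
      have hone : (act e r (structQ X)).hom.app ⊤ (M1.one ⊤) = (fn e r : Γ(X, ⊤)) • M1.one ⊤ := (mul_one (fn e r)).symm
      refine (congrArg (fun φ : structQ X ⟶ P => φ.hom.app ⊤ (M1.one ⊤)) (act_nat e r w)).trans ?_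
      change w.hom.app ⊤ ((act e r (structQ X)).hom.app ⊤ (M1.one ⊤)) = _
      rw [hone, Scheme.Modules.Hom.app_smul]
    have hdQ := (hQ (fn e r)).1 ((hval u).symm.trans (by rw [hQ0]; rfl))
    have hsub : X.basicOpen (fn e r) ≤ U := fun y hy => by
      by_contra hc
      exact Set.disjoint_left.1 hdQ hy hc
    have hxr : x ∈ X.basicOpen (fn e r) := by
      by_contra hc
      refine hrK (Module.mem_annihilator.2 fun y => ?_)
      have h0 : fn e r • v.hom.app ⊤ (M1.one ⊤) = 0 :=
        (hK _).2 (Set.disjoint_singleton_right.2 hc)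
      have hv0 : v ≫ act e r K = 0 := ObjectProperty.hom_ext _ (M1.unit_hom_ext ((hval v).trans h0))
      have hact : act e r K = 0 := by rw [← cancel_epi v, hv0, comp_zero]
      have hr0 : e.inverse.map (r • 𝟙 (e.functor.obj K)) = 0 := by
        rw [← cancel_epi (e.unitIso.hom.app K), ← cancel_mono (e.unitIso.inv.app K), Category.assoc]
        simpa [act] using hact
      have : r • 𝟙 (e.functor.obj K) = 0 := e.inverse.map_injective (hr0.trans (Functor.map_zero _ _ _).symm)
      exact congrArg (fun φ : e.functor.obj K ⟶ e.functor.obj K => φ.hom y) this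
    refine ⟨r, ?_, hxr⟩
    change IsAffineOpen (X.basicOpen (fn e r))
    have e1 : X.basicOpen (rs U (fn e r)) = X.basicOpen (fn e r) := by
      rw [rs, Scheme.basicOpen_res, inf_eq_right.2 hsub]
    rw [← e1]; exact hU.basicOpen _
  have hall : ∀ y : X, ∃ r ∈ T, y ∈ X.basicOpen (fn e r) := fun y => by
    obtain ⟨x, hx, hxc⟩ := (isClosed_closure (s := ({y} : Set X))).exists_closed_singleton ⟨y, subset_closure rfl⟩
    obtain ⟨r, hr, hxr⟩ := hloc x hxc
    exact ⟨r, hr, (specializes_iff_mem_closure.2 hx).mem_open (X.basicOpen _).2 hxr⟩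
  have hT : Ideal.span T = ⊤ := by
    by_contra hne
    obtain ⟨m, hm, hle⟩ := Ideal.exists_le_maximal _ hne
    haveI : e.inverse.Additive := Functor.additive_of_preserves_binary_products _
    let S := e.inverse.obj (ModuleCat.of R (R ⧸ m))
    have hact : ∀ r ∈ T, act e r S = 0 := fun r hr => by
      have h0 : r • 𝟙 (ModuleCat.of R (R ⧸ m)) = 0 := by
        refine ModuleCat.hom_ext (LinearMap.ext fun y => ?_)
        exact (Algebra.smul_def r y).trans (mul_eq_zero_of_left (Ideal.Quotient.eq_zero_iff_mem.2 (hle (Ideal.subset_span hr))) _)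
      have : r • 𝟙 (e.functor.obj S) = 0 := by
        have h := congrArg (fun φ => (e.counitIso.app (ModuleCat.of R (R ⧸ m))).hom ≫ φ ≫ (e.counitIso.app (ModuleCat.of R (R ⧸ m))).inv) h0
        simpa [Linear.comp_smul, Linear.smul_comp, S] using h
      simp only [act, this, Functor.map_zero, zero_comp, comp_zero]
    have hS : IsZero S := by
      rw [IsZero.iff_id_eq_zero]
      refine ObjectProperty.hom_ext _ ?_
      ext V s
      refine modules_eq_of_locally_eq S.obj V
        (fun j : {j : X.affineOpens // j.1 ≤ V ∧ ∃ r ∈ T, j.1 ≤ X.basicOpen (fn e r)} => j.1.1) (fun j => j.2.1)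
        (fun y hy => ?_) _ _ fun j => ?_
      · obtain ⟨r, hr, hyr⟩ := hall y
        obtain ⟨W, hW, hyW, hWV⟩ := exists_isAffineOpen_mem_and_subset (x := y) (U := V ⊓ X.basicOpen (fn e r)) ⟨hy, hyr⟩
        exact Opens.mem_iSup.2 ⟨⟨⟨W, hW⟩, hWV.trans inf_le_left, r, hr, hWV.trans inf_le_right⟩, hyW⟩
      · obtain ⟨r, hr, hjr⟩ := j.2.2
        have h1 := act_app e r S j.1.2 (mres S.obj j.2.1 s)
        rw [hact r hr] at h1
        have h2 : mres S.obj j.2.1 s = 0 := (M1.isUnit_rs hjr).smul_eq_zero.1 h1.symm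
        change mres S.obj j.2.1 s = mres S.obj j.2.1 0
        rw [h2, map_zero]
    have hRm : IsZero (ModuleCat.of R (R ⧸ m)) :=
      (e.functor.map_isZero hS).of_iso (e.counitIso.app (ModuleCat.of R (R ⧸ m))).symm
    haveI := ModuleCat.subsingleton_of_isZero hRm
    exact one_ne_zero (α := R ⧸ m) (Subsingleton.elim _ _)
  refine isAffine_of_isAffineOpen_basicOpen (fnHom e '' T) ?_ ?_
  · rw [← Ideal.map_span, hT, Ideal.map_top]
  · rintro _ ⟨r, hr, rfl⟩
    exact hr

end Groth.Agent.QCoh8
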