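import Groth.Agent.Lib.QCoh8.Basic
import Groth.Agent.Lib.ModM1.Extend
import Groth.Agent.Lib.ModM1.Affine

/-!
# A small separating set of quasi-coherent modules on an arbitrary scheme

For a section `s` of a quasi-coherent module over an affine open, one closes `{s}` under the operation
"clear denominators on a basic open of another affine open"; the index type of the generators so obtained
does not depend on the module.
-/

set_option autoImplicit false
set_option backward.isDefEq.respectTransparency false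

universe u

open CategoryTheory CategoryTheory.Limits AlgebraicGeometry Opposite

namespace Groth.Agent.QCoh8

open Groth.Agent Groth.Agent.M1

variable {X : Scheme.{u}}

lemma isQCoh_fr (I : Type u) : Coh.IsQCoh (M1.fr (X := X) I) :=
  M1.isQCoh_of_isColimit (K := Discrete I) (fun _ => M1.isQCoh_structureModule X)
    (coproductIsCoproduct fun _ : I => Coh.structureModule X)

/-- Clearing the denominator of a section near a point. -/
lemma exists_spread (F : X.Modules) [Coh.IsQCoh F] {U V : X.Opens} (hU : IsAffineOpen U) (a : Γ(F, V))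
    {x : X} (hxU : x ∈ U) (hxV : x ∈ V) :
    ∃ (t : Γ(F, U)) (W : X.Opens) (hWU : W ≤ U) (hWV : W ≤ V) (r : Γ(X, W)),
      x ∈ W ∧ IsUnit r ∧ mres F hWU t = r • mres F hWV a := by
  obtain ⟨g, hgV, hgx⟩ := hU.exists_basicOpen_le ⟨x, hxV⟩ hxU
  haveI : IsAffine (U : Scheme.{u}) := hU
  haveI : Coh.IsQCoh (F.restrict U.ι) := M1.isQCoh_restrict ‹_› _
  let g' : Γ((U : Scheme.{u}), ⊤) := U.topIso.inv g
  let T : (U : Scheme.{u}).Opens := ⊤ ⊓ (U : Scheme.{u}).basicOpen g'
  have hT : T = (U : Scheme.{u}).basicOpen g' := top_inf_eq _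
  have himg : U.ι ''ᵁ T = X.basicOpen g := by
    rw [hT]; exact U.ι_image_basicOpen_topIso_inv g
  have hTU : U.ι ''ᵁ T ≤ U := himg.le.trans (X.basicOpen_le g)
  have hTV : U.ι ''ᵁ T ≤ V := himg.le.trans hgV
  obtain ⟨n, t, ht⟩ := locSurj_affine (F.restrict U.ι) g' (isAffineOpen_top (U : Scheme.{u}))
    ((F.restrictAppIso U.ι T).inv (mres F hTV a))
  have hr : IsUnit ((U.ι.appIso T).inv (rs T g' ^ n)) :=
    (((isUnit_rs (by rw [hT])).pow n).map (U.ι.appIso T).inv.hom)
  refine ⟨mres F U.ι_image_top.ge ((F.restrictAppIso U.ι ⊤).hom t), U.ι ''ᵁ T, hTU, hTV,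
    (U.ι.appIso T).inv (rs T g' ^ n), himg.ge hgx, hr, ?_⟩
  have h := congr((F.restrictAppIso U.ι T).hom $ht)
  rw [Scheme.Modules.smul_restrictAppIso_hom_apply, Iso.inv_hom_id_apply] at h
  rw [mres_mres, ← h]
  rfl

variable (F : X.Modules) [Coh.IsQCoh F]

open Classical in
/-- The section added for `a` at the point `x` on the affine open `i`. -/
noncomputable def spread {j : X.affineOpens} (a : Γ(F, j.1)) (i : X.affineOpens) (x : X) : Γ(F, i.1) :=
  if h : x ∈ i.1 ∧ x ∈ j.1 then (exists_spread F i.2 a h.1 h.2).choose else 0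

lemma spread_spec {j : X.affineOpens} (a : Γ(F, j.1)) (i : X.affineOpens) {x : X} (hi : x ∈ i.1)
    (hj : x ∈ j.1) :
    ∃ (W : X.Opens) (hWU : W ≤ i.1) (hWV : W ≤ j.1) (r : Γ(X, W)),
      x ∈ W ∧ IsUnit r ∧ mres F hWU (spread F a i x) = r • mres F hWV a := by
  rw [spread, dif_pos ⟨hi, hj⟩]
  exact (exists_spread F i.2 a hi hj).choose_spec

/-- The indices of the generators. -/
inductive Idx (i₀ : X.affineOpens) : X.affineOpens → Type u
  | seed : Idx i₀ i₀
  | step {j : X.affineOpens} (t : Idx i₀ j) (i : X.affineOpens) (x : X) : Idx i₀ i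

variable {i₀ : X.affineOpens} (s : Γ(F, i₀.1))

/-- The generators. -/
noncomputable def val : ∀ {i : X.affineOpens}, Idx i₀ i → Γ(F, i.1)
  | _, .seed => s
  | _, .step t i x => spread F (val t) i x

/-- The morphism from a free module given by the generators on an affine open. -/
noncomputable def genHom (i : X.affineOpens) : M1.fr (X := (i.1 : Scheme.{u})) (Idx i₀ i) ⟶ F.restrict i.1.ι :=
  M1.freeHom fun t => (F.restrictAppIso i.1.ι ⊤).inv (mres F i.1.ι_image_top.le (val F s t))

/-- The submodule on an affine open. -/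
noncomputable def loc (i : X.affineOpens) : M1.Sub (F.restrict i.1.ι) := M1.Sub.im (genHom F s i)

lemma isQCoh_loc (i : X.affineOpens) : Coh.IsQCoh (loc F s i).P :=
  M1.Sub.isQCoh_im _ (isQCoh_fr _) (M1.isQCoh_restrict ‹_› _)

lemma mem_loc_val (i : X.affineOpens) (t : Idx i₀ i) :
    (loc F s i).mem ⊤ ((F.restrictAppIso i.1.ι ⊤).inv (mres F i.1.ι_image_top.le (val F s t))) := by
  have h := M1.Sub.im_mem_app (genHom F s i) ⊤ ((M1.ιF t).app ⊤ (M1.one ⊤))
  rw [genHom, ← comp_app_apply, M1.ιF_freeHom, M1.secHom_app_one] at h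
  exact h

/-- The extension of the local submodule contains the generators on that open. -/
lemma mem_ext_val (i : X.affineOpens) (t : Idx i₀ i) :
    (M1.Sub.ext i.1.ι (loc F s i)).mem i.1 (val F s t) := by
  rw [← (M1.Sub.ext i.1.ι (loc F s i)).mem_congr i.1.ι_image_top.symm, ← M1.Sub.mem_res,
    M1.Sub.mem_res_ext]
  exact mem_loc_val F s i t

lemma mem_of_unit_smul {p : M1.Sub F} {W : X.Opens} {r : Γ(X, W)} (hr : IsUnit r) {a : Γ(F, W)}
    (h : p.mem W (r • a)) : p.mem W a := by
  obtain ⟨r, rfl⟩ := hr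
  have := p.mem_smul (↑r⁻¹ : Γ(X, W)) h
  rwa [smul_smul, Units.inv_mul, one_smul] at this

/-- The extension from `i` contains the generators on every `j`. -/
lemma mem_ext_val' (i j : X.affineOpens) (t : Idx i₀ j) :
    (M1.Sub.ext i.1.ι (loc F s i)).mem (j.1 ⊓ i.1) (mres F inf_le_left (val F s t)) := by
  refine M1.Sub.mem_of_locally _ _ fun x hx => ?_
  obtain ⟨W, hWi, hWj, r, hxW, hr, he⟩ := spread_spec F (val F s t) i hx.2 hx.1
  refine ⟨W, le_inf hWj hWi, hxW, mem_of_unit_smul F hr ?_⟩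
  rw [mres_mres, ← he]
  exact M1.Sub.mem_mres _ hWi (mem_ext_val F s i (Idx.step t i x))

lemma mem_ext_inf {Y : Scheme.{u}} (j : Y ⟶ X) [IsOpenImmersion j] {G : X.Modules}
    (H : M1.Sub (G.restrict j)) (T : X.Opens) (a : Γ(G, T)) :
    (M1.Sub.ext j H).mem T a ↔ (M1.Sub.ext j H).mem (T ⊓ j.opensRange) (mres G inf_le_left a) :=
  ((M1.Sub.mem_ext j H T a).trans (M1.Sub.mem_res_ext j H _ _).symm).trans
    ((M1.Sub.mem_ext j ((M1.Sub.ext j H).res j) T a).symm.trans (M1.Sub.mem_ext_res j _ T a))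

/-- The submodule generated on all affine opens. -/
noncomputable def gen : M1.Sub F :=
  M1.Sub.ker (Pi.lift fun i : X.affineOpens => cokernel.π (M1.Sub.ext i.1.ι (loc F s i)).i)

lemma mem_gen (T : X.Opens) (a : Γ(F, T)) :
    (gen F s).mem T a ↔ ∀ i : X.affineOpens, (M1.Sub.ext i.1.ι (loc F s i)).mem T a := by
  rw [gen, M1.Sub.mem_ker]
  refine ⟨fun h i => ?_, fun h => eq_zero_of_pi _ T _ fun k => ?_⟩
  · rw [M1.Sub.mem_iff_cokernel, ← Pi.lift_π (fun k : X.affineOpens => cokernel.π (M1.Sub.ext k.1.ι (loc F s k)).i) i,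
      comp_app_apply, h, map_zero]
  · rw [← comp_app_apply, Pi.lift_π]
    exact (M1.Sub.mem_iff_cokernel _ _ _).1 (h k)

lemma mem_gen_val (j : X.affineOpens) (t : Idx i₀ j) : (gen F s).mem j.1 (val F s t) := by
  rw [mem_gen]
  intro i
  rw [mem_ext_inf]
  have e : j.1 ⊓ i.1.ι.opensRange = j.1 ⊓ i.1 := by rw [Scheme.Opens.opensRange_ι]
  rw [← M1.Sub.mem_congr _ e, mres_mres]
  exact mem_ext_val' F s i j t

lemma mem_res_gen_iff (j : X.affineOpens) (T : (j.1 : Scheme.{u}).Opens) (a : Γ(F.restrict j.1.ι, T)) :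
    ((gen F s).res j.1.ι).mem T a ↔ (loc F s j).mem T a := by
  constructor
  · intro h
    rw [M1.Sub.mem_res] at h
    rw [← M1.Sub.mem_res_ext, M1.Sub.mem_res]
    exact (mem_gen F s _ _).1 h j
  · refine M1.Sub.im_le (genHom F s j) _ (fun T m => ?_) T a
    have h0 : genHom F s j ≫ cokernel.π ((gen F s).res j.1.ι).i = 0 := by
      refine M1.free_hom_ext fun t => ?_
      rw [genHom, M1.ιF_freeHom_assoc, comp_app_apply, M1.secHom_app_one, comp_zero]
      refine ((M1.Sub.mem_iff_cokernel _ _ _).1 ?_).trans rfl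
      rw [M1.Sub.mem_res]
      exact M1.Sub.mem_mres _ _ (mem_gen_val F s j t)
    rw [M1.Sub.mem_iff_cokernel, ← comp_app_apply, h0]
    rfl

lemma exists_gen_res_iso (j : X.affineOpens) :
    Nonempty ((gen F s).P.restrict j.1.ι ≅ (loc F s j).P) :=
  ⟨(M1.Sub.exists_iso ((gen F s).res j.1.ι) (loc F s j) (mem_res_gen_iff F s j)).choose⟩

lemma isQCoh_gen : Coh.IsQCoh (gen F s).P := by
  refine M1.isQCoh_of_openImmersion_cover (fun j : X.affineOpens => j.1.ι) (fun x => ?_) fun j => ?_
  · obtain ⟨U, hU, hxU, -⟩ := exists_isAffineOpen_mem_and_subset (x := x) (U := ⊤) trivial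
    exact ⟨⟨U, hU⟩, by rwa [Scheme.Opens.range_ι]⟩
  · exact M1.isQCoh_of_isIso (exists_gen_res_iso F s j).some.symm (isQCoh_loc F s j)

lemma exists_epi_gen (j : X.affineOpens) :
    ∃ p : M1.fr (X := (j.1 : Scheme.{u})) (Idx i₀ j) ⟶ (gen F s).P.restrict j.1.ι, Epi p :=
  ⟨_ ≫ (exists_gen_res_iso F s j).some.inv, @epi_comp _ _ _ _ _ _ (M1.Sub.epi_toIm (genHom F s j)) _ inferInstance⟩

/-- A module whose restriction to each affine open is a quotient of a prescribed free module embeds into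
the product of the direct images of these quotients. -/
lemma exists_mono_prod (G : X.Modules) (I : X.affineOpens → Type u)
    (h : ∀ j : X.affineOpens, ∃ p : M1.fr (X := (j.1 : Scheme.{u})) (I j) ⟶ G.restrict j.1.ι, Epi p) :
    ∃ K : ∀ j : X.affineOpens, Subobject (M1.fr (X := (j.1 : Scheme.{u})) (I j)),
      ∃ m : G ⟶ ∏ᶜ fun j => (Scheme.Modules.pushforward j.1.ι).obj (cokernel (K j).arrow), Mono m := by
  choose p hp using h
  refine ⟨fun j => kernelSubobject (p j), ?_⟩
  have w : ∀ j, (kernelSubobject (p j)).arrow ≫ p j = 0 := fun j => kernelSubobject_arrow_comp _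
  haveI : ∀ j, Mono (cokernel.desc _ (p j) (w j)) := fun j => by
    have hex : (ShortComplex.mk _ _ (w j)).Exact :=
      ShortComplex.exact_of_f_is_kernel _ (KernelFork.IsLimit.ofι _ _
        (fun g hg => (kernelSubobject (p j)).factorThru g (kernelSubobject_factors _ g hg))
        (fun g hg => Subobject.factorThru_arrow _ _ _)
        (fun g hg m hm => by rw [← cancel_mono (kernelSubobject (p j)).arrow, Subobject.factorThru_arrow]; exact hm))
    exact hex.mono_cokernelDesc
  haveI : ∀ j, IsIso (cokernel.desc _ (p j) (w j)) := fun j => by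
    haveI : Epi (cokernel.π (kernelSubobject (p j)).arrow ≫ cokernel.desc _ (p j) (w j)) := by
      rw [cokernel.π_desc]; exact hp j
    haveI := epi_of_epi (cokernel.π (kernelSubobject (p j)).arrow) (cokernel.desc _ (p j) (w j))
    exact isIso_of_mono_of_epi _
  refine ⟨Pi.lift fun j => (Scheme.Modules.restrictAdjunction j.1.ι).unit.app G ≫
    (Scheme.Modules.pushforward j.1.ι).map (inv (cokernel.desc _ (p j) (w j))), ?_⟩
  rw [M1.mono_iff_app]
  intro T
  refine (injective_iff_map_eq_zero _).2 fun a ha => ?_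
  have h0 : ∀ j : X.affineOpens, mres G (j.1.ι.image_preimage_le T) a = 0 := fun j => by
    have := congr((Pi.π (fun j : X.affineOpens => (Scheme.Modules.pushforward j.1.ι).obj (cokernel (kernelSubobject (p j)).arrow)) j).app T $ha)
    rw [← comp_app_apply, Pi.lift_π, map_zero, comp_app_apply] at this
    have hinj : Function.Injective ((inv (cokernel.desc _ (p j) (w j))).app (j.1.ι ⁻¹ᵁ T)) :=
      (M1.mono_iff_app _).1 inferInstance _
    exact hinj (this.trans (map_zero _).symm)
  refine modules_eq_of_locally_eq G T (fun j : X.affineOpens => j.1.ι ''ᵁ j.1.ι ⁻¹ᵁ T)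
    (fun j => j.1.ι.image_preimage_le T) (fun x hx => ?_) a 0 fun j => (h0 j).trans (map_zero _).symm
  obtain ⟨U, hU, hxU, -⟩ := exists_isAffineOpen_mem_and_subset (x := x) (U := ⊤) trivial
  exact TopologicalSpace.Opens.mem_iSup.2 ⟨⟨U, hU⟩, ⟨x, hxU⟩, hx, rfl⟩

end Groth.Agent.QCoh8
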